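import Mathlib

/-!
Pushing up for a group with dihedral quotient: a subgroup `H` with a normal 2-subgroup `Q` and
`H/Q` dihedral of twice odd order, and an element `y` normalising a Sylow 2-subgroup `P` of `H`
with no nontrivial subgroup of `Q` normal in `H` and invariant under `y`.
-/

set_option autoImplicit false
set_option linter.unusedSectionVars false
set_option linter.style.haveILetI false

namespace CfsgLib.PushDihedral

variable {G : Type*} [Group G]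

/-- The conjugate `g X g⁻¹`. -/
def cj (g : G) (X : Subgroup G) : Subgroup G where
  carrier := {x | g⁻¹ * x * g ∈ X}
  mul_mem' {a b} ha hb := by
    show g⁻¹ * (a * b) * g ∈ X
    rw [show g⁻¹ * (a * b) * g = (g⁻¹ * a * g) * (g⁻¹ * b * g) by group]
    exact mul_mem ha hb
  one_mem' := by
    show g⁻¹ * 1 * g ∈ X
    simp
  inv_mem' {a} ha := by
    show g⁻¹ * a⁻¹ * g ∈ X
    rw [show g⁻¹ * a⁻¹ * g = (g⁻¹ * a * g)⁻¹ by group]
    exact inv_mem ha

theorem mem_cj {g x : G} {X : Subgroup G} : x ∈ cj g X ↔ g⁻¹ * x * g ∈ X := Iff.rfl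

theorem conj_mem_cj {g x : G} {X : Subgroup G} (hx : x ∈ X) : g * x * g⁻¹ ∈ cj g X := by
  rw [mem_cj]
  simpa [mul_assoc] using hx

theorem cj_cj (g h : G) (X : Subgroup G) : cj g (cj h X) = cj (g * h) X := by
  ext x
  simp only [mem_cj, mul_inv_rev, mul_assoc]

theorem cj_one (X : Subgroup G) : cj 1 X = X := by ext x; simp [mem_cj]

theorem cj_mono (g : G) {X Y : Subgroup G} (h : X ≤ Y) : cj g X ≤ cj g Y := fun _ hx => h hx

theorem cj_inv_cj (g : G) (X : Subgroup G) : cj g⁻¹ (cj g X) = X := by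
  rw [cj_cj, inv_mul_cancel, cj_one]

theorem cj_cj_inv (g : G) (X : Subgroup G) : cj g (cj g⁻¹ X) = X := by
  rw [cj_cj, mul_inv_cancel, cj_one]

theorem le_cj_iff (g : G) {X Y : Subgroup G} : X ≤ cj g Y ↔ cj g⁻¹ X ≤ Y := by
  constructor
  · intro h
    have := cj_mono g⁻¹ h
    rwa [cj_inv_cj] at this
  · intro h
    have := cj_mono g h
    rwa [cj_cj_inv] at this

theorem cj_sup (g : G) (X Y : Subgroup G) : cj g (X ⊔ Y) = cj g X ⊔ cj g Y := by
  refine le_antisymm ?_ (sup_le (cj_mono g le_sup_left) (cj_mono g le_sup_right))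
  rw [show cj g (X ⊔ Y) ≤ cj g X ⊔ cj g Y ↔ X ⊔ Y ≤ cj g⁻¹ (cj g X ⊔ cj g Y) by
    rw [le_cj_iff, inv_inv]]
  refine sup_le ?_ ?_
  · rw [le_cj_iff, inv_inv]; exact le_sup_left
  · rw [le_cj_iff, inv_inv]; exact le_sup_right

theorem cj_of_mem {g : G} {X : Subgroup G} (hg : g ∈ X) : cj g X = X := by
  ext x
  rw [mem_cj]
  constructor
  · intro h
    have := mul_mem (mul_mem hg h) (inv_mem hg)
    simpa [mul_assoc] using this
  · exact fun h => mul_mem (mul_mem (inv_mem hg) h) hg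

theorem cj_eq_smul (g : G) (X : Subgroup G) : cj g X = X.map (MulAut.conj g).toMonoidHom := by
  ext x
  rw [mem_cj, Subgroup.mem_map]
  constructor
  · intro h
    exact ⟨_, h, by simp [mul_assoc]⟩
  · rintro ⟨a, ha, rfl⟩
    simpa [mul_assoc] using ha

/-- The stabiliser of a subgroup under conjugation. -/
def stab (X : Subgroup G) : Subgroup G where
  carrier := {g | cj g X = X}
  mul_mem' {a b} ha hb := by
    show cj (a * b) X = X
    rw [← cj_cj, (hb : cj b X = X), (ha : cj a X = X)]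
  one_mem' := cj_one X
  inv_mem' {a} ha := by
    show cj a⁻¹ X = X
    conv_lhs => rw [← (ha : cj a X = X), cj_inv_cj]

theorem mem_stab {g : G} {X : Subgroup G} : g ∈ stab X ↔ cj g X = X := Iff.rfl

theorem stab_of_le {g : G} {X : Subgroup G} [Finite G] (h : cj g X ≤ X) : cj g X = X := by
  refine Subgroup.eq_of_le_of_card_ge h (le_of_eq ?_)
  rw [cj_eq_smul, Subgroup.card_map_of_injective (MulAut.conj g).injective]

/-- The fixer of an element under conjugation. -/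
def fixer (x : G) : Subgroup G := Subgroup.centralizer {x}

theorem mem_fixer {g x : G} : g ∈ fixer x ↔ g * x = x * g := by
  rw [fixer, Subgroup.mem_centralizer_singleton_iff]

theorem mem_fixer_iff_conj {g x : G} : g ∈ fixer x ↔ g * x * g⁻¹ = x := by
  rw [mem_fixer, mul_inv_eq_iff_eq_mul]

/-- The hypotheses. -/
structure Setup (H P Q : Subgroup G) (y : G) (n : ℕ) (π : H →* DihedralGroup n) : Prop where
  ker : ∀ h : H, π h = 1 ↔ (h : G) ∈ Q
  surj : Function.Surjective π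
  odd : Odd n
  three : 3 ≤ n
  QP : Q ≤ P
  PH : P ≤ H
  two : IsPGroup 2 P
  exists_out : ∃ a ∈ P, a ∉ Q
  out_sr : ∀ a (ha : a ∈ P), a ∉ Q → ∀ b (hb : b ∈ P), b ∉ Q →
    ∃ j, π ⟨a, PH ha⟩ = DihedralGroup.sr j ∧ π ⟨b, PH hb⟩ = DihedralGroup.sr j
  yP : cj y P = P
  ysq : y ^ 2 ∈ P ⊔ Subgroup.centralizer (P : Set G)
  Qne : Q ≠ ⊥
  nonormal : ∀ X : Subgroup G, X ≤ Q → (∀ h ∈ H, cj h X = X) → cj y X = X → X = ⊥

namespace Setup

variable {H P Q : Subgroup G} {y : G} {n : ℕ} {π : H →* DihedralGroup n}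
variable (s : Setup H P Q y n π)
include s

theorem QH : Q ≤ H := s.QP.trans s.PH

theorem neZero : NeZero n := ⟨by have := s.three; omega⟩

theorem cj_Q {h : G} (hh : h ∈ H) : cj h Q = Q := by
  have key : ∀ h ∈ H, ∀ q ∈ Q, h * q * h⁻¹ ∈ Q := by
    intro h hh q hq
    have h1 := (s.ker ⟨q, s.QH hq⟩).2 hq
    have h2 : π (⟨h, hh⟩ * ⟨q, s.QH hq⟩ * ⟨h, hh⟩⁻¹) = 1 := by
      rw [map_mul, map_mul, h1, map_inv, mul_one, mul_inv_cancel]
    exact (s.ker _).1 h2
  ext x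
  rw [mem_cj]
  constructor
  · intro hx
    have := key h hh _ hx
    simpa [mul_assoc] using this
  · intro hx
    simpa using key h⁻¹ (inv_mem hh) x hx

theorem conj_Q {h q : G} (hh : h ∈ H) (hq : q ∈ Q) : h * q * h⁻¹ ∈ Q := by
  have := conj_mem_cj (g := h) hq
  rwa [s.cj_Q hh] at this

theorem mul_mem_Q {a b : G} (ha : a ∈ P) (ha' : a ∉ Q) (hb : b ∈ P) (hb' : b ∉ Q) : a * b ∈ Q := by
  obtain ⟨j, ha2, hb2⟩ := s.out_sr a ha ha' b hb hb'
  refine (s.ker (⟨a, s.PH ha⟩ * ⟨b, s.PH hb⟩)).1 ?_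
  rw [map_mul, ha2, hb2, DihedralGroup.sr_mul_sr, sub_self, DihedralGroup.r_zero]

theorem inv_mul_mem_Q {a b : G} (ha : a ∈ P) (ha' : a ∉ Q) (hb : b ∈ P) (hb' : b ∉ Q) :
    a⁻¹ * b ∈ Q :=
  s.mul_mem_Q (inv_mem ha) (fun h => ha' (by simpa using inv_mem h)) hb hb'

theorem sq_mem_Q {a : G} (ha : a ∈ P) : a * a ∈ Q := by
  by_cases h : a ∈ Q
  · exact mul_mem h h
  · exact s.mul_mem_Q ha h ha h

/-- A subgroup containing `Q`, an element outside `Q` in `P` and a generating rotation contains `H`. -/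
theorem H_le (L : Subgroup G) (hQ : Q ≤ L) {a : G} (ha : a ∈ P) (ha' : a ∉ Q) (haL : a ∈ L)
    {x : G} (hx : x ∈ H) {i : ZMod n} (hi : IsUnit i) (hπ : π ⟨x, hx⟩ = DihedralGroup.r i)
    (hxL : x ∈ L) : H ≤ L := by
  haveI := s.neZero
  obtain ⟨j, hj, -⟩ := s.out_sr a ha ha' a ha ha'
  have hr : ∀ k : ZMod n, ∃ h : H, (h : G) ∈ L ∧ π h = DihedralGroup.r k := by
    intro k
    obtain ⟨u, rfl⟩ := hi
    refine ⟨⟨x, hx⟩ ^ ((↑u⁻¹ : ZMod n) * k).val, by simpa using pow_mem hxL _, ?_⟩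
    rw [map_pow, hπ, DihedralGroup.r_pow, ZMod.natCast_zmod_val, ← mul_assoc, Units.mul_inv, one_mul]
  intro h hh
  suffices ∀ d : DihedralGroup n, ∃ h' : H, (h' : G) ∈ L ∧ π h' = d by
    obtain ⟨h', hL, e⟩ := this (π ⟨h, hh⟩)
    have h1 : π (h'⁻¹ * ⟨h, hh⟩) = 1 := by rw [map_mul, map_inv, e, inv_mul_cancel]
    have h2 := mul_mem hL (hQ ((s.ker _).1 h1))
    simpa using h2
  rintro (k | k)
  · exact hr k
  · obtain ⟨h', hL, e⟩ := hr (k - j)
    exact ⟨⟨a, s.PH ha⟩ * h', mul_mem haL hL, by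
      rw [map_mul, hj, e, DihedralGroup.sr_mul_r, add_sub_cancel]⟩

/-- Elements of `H` mapping to generating rotations. -/
def Gen (_ : Setup H P Q y n π) (g : G) : Prop :=
  ∃ hg : g ∈ H, ∃ i : ZMod n, IsUnit i ∧ π ⟨g, hg⟩ = DihedralGroup.r i

theorem two_unit : IsUnit (2 : ZMod n) := by
  have : Nat.Coprime 2 n := Nat.coprime_two_left.2 s.odd
  simpa using (ZMod.unitOfCoprime 2 this).isUnit

theorem gen_inv {g : G} (hg : s.Gen g) : s.Gen g⁻¹ := by
  obtain ⟨hg, i, hi, e⟩ := hg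
  refine ⟨inv_mem hg, -i, hi.neg, ?_⟩
  rw [show (⟨g⁻¹, inv_mem hg⟩ : H) = ⟨g, hg⟩⁻¹ from rfl, map_inv, e, DihedralGroup.inv_r]

theorem gen_sq {g : G} (hg : s.Gen g) : s.Gen (g * g) := by
  obtain ⟨hg, i, hi, e⟩ := hg
  refine ⟨mul_mem hg hg, i + i, ?_, ?_⟩
  · rw [← two_mul]; exact s.two_unit.mul hi
  · rw [show (⟨g * g, mul_mem hg hg⟩ : H) = ⟨g, hg⟩ * ⟨g, hg⟩ from rfl, map_mul, e,
      DihedralGroup.r_mul_r]

theorem gen_le {g : G} (hg : s.Gen g) {L : Subgroup G} (hP : P ≤ L) (hgL : g ∈ L) : H ≤ L := by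
  obtain ⟨hgH, i, hi, e⟩ := hg
  obtain ⟨a, ha, ha'⟩ := s.exists_out
  exact s.H_le L (s.QP.trans hP) ha ha' (hP ha) hgH hi e hgL

/-- The product of an element outside `Q` and a conjugate by a generating rotation. -/
theorem gen_mul_conj {g a : G} (hg : s.Gen g) (ha : a ∈ P) (ha' : a ∉ Q) :
    s.Gen (a * (g * a * g⁻¹)) := by
  obtain ⟨hgH, i, hi, e⟩ := hg
  obtain ⟨j, hj, -⟩ := s.out_sr a ha ha' a ha ha'
  have hm : a * (g * a * g⁻¹) ∈ H :=
    mul_mem (s.PH ha) (mul_mem (mul_mem hgH (s.PH ha)) (inv_mem hgH))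
  refine ⟨hm, -(i + i), ?_, ?_⟩
  · rw [← two_mul]; exact (s.two_unit.mul hi).neg
  · rw [show (⟨a * (g * a * g⁻¹), hm⟩ : H) = ⟨a, s.PH ha⟩ * (⟨g, hgH⟩ * ⟨a, s.PH ha⟩ * ⟨g, hgH⟩⁻¹)
      from rfl, map_mul, map_mul, map_mul, map_inv, e, hj, DihedralGroup.r_mul_sr,
      DihedralGroup.inv_r, DihedralGroup.sr_mul_r, DihedralGroup.sr_mul_sr]
    congr 1
    ring

theorem H_le_of_conj {g : G} (hg : s.Gen g) {L : Subgroup G} (hc : cj g P ≤ L) {a : G} (ha : a ∈ P)
    (ha' : a ∉ Q) (haL : a ∈ L) : H ≤ L := by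
  have hQ : Q ≤ L := by
    rw [← s.cj_Q hg.1]
    exact (cj_mono g s.QP).trans hc
  obtain ⟨hm, k, hk, e⟩ := s.gen_mul_conj hg ha ha'
  exact s.H_le L hQ ha ha' haL hm hk e (mul_mem haL (hc (conj_mem_cj ha)))

/-- An element commuting with `P` and with a generating rotation commutes with `H`. -/
theorem central_of_gen {g x : G} (hg : s.Gen g) (hP : P ≤ fixer x) (hx : g * x * g⁻¹ = x) :
    H ≤ fixer x :=
  s.gen_le hg hP (mem_fixer_iff_conj.2 hx)

/-- A generating rotation of odd order. -/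
theorem exists_gen_odd [Finite G] : ∃ g, s.Gen g ∧ Odd (orderOf g) := by
  haveI := s.neZero
  obtain ⟨h, hh⟩ := s.surj (DihedralGroup.r 1)
  obtain ⟨k, m, hm, e⟩ := Nat.exists_eq_two_pow_mul_odd (orderOf_pos (h : G)).ne'
  refine ⟨(h : G) ^ 2 ^ k, ⟨pow_mem h.2 _, (2 : ZMod n) ^ k, s.two_unit.pow k, ?_⟩, ?_⟩
  · rw [show (⟨(h : G) ^ 2 ^ k, pow_mem h.2 _⟩ : H) = h ^ 2 ^ k from Subtype.ext (by simp),
      map_pow, hh, DihedralGroup.r_one_pow]
    congr 1
    push_cast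
    ring
  · rw [orderOf_pow' _ (Nat.two_pow_pos k).ne', e, Nat.gcd_eq_right (dvd_mul_right _ _),
      Nat.mul_div_cancel_left _ (Nat.two_pow_pos k)]
    exact hm

theorem yPX {x : G} (hx : x ∈ P) : y * x * y⁻¹ ∈ P := by
  have := conj_mem_cj (g := y) hx
  rwa [s.yP] at this

theorem yPX' {x : G} (hx : x ∈ P) : y⁻¹ * x * y ∈ P := by
  have h : x ∈ cj y P := by rwa [s.yP]
  exact h

/-- Conjugating twice by `y` fixes the normal subgroups of `P`. -/
theorem y_twice {X : Subgroup G} (hXP : X ≤ P) (hn : P ≤ stab X) : cj y (cj y X) = X := by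
  have h : P ⊔ Subgroup.centralizer (P : Set G) ≤ stab X := by
    refine sup_le hn fun c hc => ?_
    have key : ∀ x ∈ X, c⁻¹ * x * c = x := fun x hx => by
      rw [mul_assoc, Subgroup.mem_centralizer_iff.1 hc x (hXP hx), inv_mul_cancel_left]
    rw [mem_stab]
    ext x
    rw [mem_cj]
    refine ⟨fun hx => ?_, fun hx => by rwa [key x hx]⟩
    have := key _ hx
    have e : c⁻¹ * x * c = x := by
      have h2 : c⁻¹ * (c⁻¹ * x * c) * c = c⁻¹ * x * c := this
      calc c⁻¹ * x * c = c * (c⁻¹ * (c⁻¹ * x * c) * c) * c⁻¹ := by group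
        _ = c * (c⁻¹ * x * c) * c⁻¹ := by rw [h2]
        _ = x := by group
    rwa [e] at hx
  rw [cj_cj, ← pow_two]
  exact h s.ysq

theorem y_twice_elem {z : G} (hz : z ∈ P) (hc : P ≤ fixer z) : y * (y * z * y⁻¹) * y⁻¹ = z := by
  have h : P ⊔ Subgroup.centralizer (P : Set G) ≤ fixer z := by
    refine sup_le hc fun c hc' => mem_fixer.2 ?_
    exact (Subgroup.mem_centralizer_iff.1 hc' z hz).symm
  have := mem_fixer_iff_conj.1 (h s.ysq)
  rw [pow_two] at this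
  simpa [mul_assoc] using this

/-- The conjugation steps. -/
def Step (_ : Setup H P Q y n π) (e : G) : Prop := e = y ∨ e = y⁻¹

theorem step_P {e : G} (he : s.Step e) : cj e P = P := by
  rcases he with rfl | rfl
  · exact s.yP
  · conv_lhs => rw [← s.yP, cj_inv_cj]

theorem step_eq {e : G} (he : s.Step e) {X : Subgroup G} (hXP : X ≤ P) (hn : P ≤ stab X) :
    cj e X = cj y X := by
  rcases he with rfl | rfl
  · rfl
  · conv_lhs => rw [← s.y_twice hXP hn, cj_inv_cj]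

theorem step_elem {e : G} (he : s.Step e) {z : G} (hz : z ∈ P) (hc : P ≤ fixer z) :
    e * z * e⁻¹ = y * z * y⁻¹ := by
  rcases he with rfl | rfl
  · rfl
  · conv_lhs => rw [← s.y_twice_elem hz hc]
    group

theorem step_inv {e : G} (he : s.Step e) : s.Step e⁻¹ := by
  rcases he with rfl | rfl
  · exact Or.inr rfl
  · exact Or.inl (inv_inv y)

theorem P_le_stab_Q : P ≤ stab Q := fun _ hp => s.cj_Q (s.PH hp)

theorem step_Q {e : G} (he : s.Step e) : cj e Q = cj y Q := s.step_eq he s.QP s.P_le_stab_Q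

theorem U_le_P : cj y Q ≤ P := (cj_mono y s.QP).trans s.yP.le

theorem y_U : cj y (cj y Q) = Q := s.y_twice s.QP s.P_le_stab_Q

theorem U_ne_Q : cj y Q ≠ Q := fun h =>
  s.Qne (s.nonormal Q le_rfl (fun _ hh => s.cj_Q hh) h)

theorem U_not_le : ¬ cj y Q ≤ Q := fun h => by
  rcases eq_or_ne (cj y Q) Q with e | e
  · exact s.U_ne_Q e
  · exact e (le_antisymm h (by
      have h2 := cj_mono y h
      rwa [s.y_U] at h2))

theorem stab_U : P ≤ stab (cj y Q) := by
  intro p hp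
  rw [mem_stab, cj_cj, show p * y = y * (y⁻¹ * p * y) by group, ← cj_cj, s.cj_Q (s.PH (s.yPX' hp))]

end Setup

end CfsgLib.PushDihedral
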