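import Cfsg.Agent.Lib.PushDihedral.Words

/-!
The shift of a critical word, and the exclusion of three or more steps.
-/

set_option autoImplicit false
set_option linter.unusedSectionVars false
set_option linter.style.haveILetI false

namespace CfsgLib.PushDihedral

variable {G : Type*} [Group G]

namespace Setup

variable {H P Q : Subgroup G} {y : G} {n : ℕ} {π : H →* DihedralGroup n}
variable (s : Setup H P Q y n π) (hF : Faithful P Q) [Finite G]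
variable {B : ℕ} (hmin : ∀ k < B, ∀ x ∈ Word H y k, s.Good x)
include s hF hmin

theorem ends_le {c : ℕ} (hc : c + 2 ≤ B) {e₁ e₂ m : G} (h₁ : s.Step e₁) (h₂ : s.Step e₂)
    (hm : m ∈ Word H y c) :
    cj (e₁ * m * e₂) (Vm H P) ≤ P ∧ cj (e₁ * m * e₂)⁻¹ (Vm H P) ≤ P := by
  constructor
  · rw [mul_assoc]
    exact (s.land hF hmin (k := c + 1) (by omega) h₁ (s.word_snoc hm h₂)).trans s.U_le_P
  · rw [mul_inv_rev, mul_inv_rev]
    exact (s.land hF hmin (k := c + 1) (by omega) (s.step_inv h₂)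
      (s.word_snoc (s.word_inv hm) (s.step_inv h₁))).trans s.U_le_P

theorem crit_word {c : ℕ} (hc : c + 2 = B) {e₁ e₂ m : G} (h₁ : s.Step e₁) (h₂ : s.Step e₂)
    (hm : m ∈ Word H y c) (hw : ¬ s.Good (e₁ * m * e₂)) :
    ∃ z, s.Tr z ∧ e₁ * m * e₂ * z * (e₁ * m * e₂)⁻¹ = z := by
  obtain ⟨l1, l2⟩ := s.ends_le hF hmin hc.le h₁ h₂ hm
  refine s.crit hF l1 l2 hw fun h => hw ?_
  have hword : (e₁ * m * e₂)⁻¹ ∈ Word H y (c + 2) :=
    s.word_inv (s.word_snoc (s.word_cons h₁ hm) h₂)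
  have := s.good_inv hF hmin hc.le hword h
  rwa [inv_inv] at this

/-- A shifted critical word is critical. -/
theorem shift {c : ℕ} (hc : c + 2 = B) {e₁ e₂ m : G} (h₁ : s.Step e₁) (h₂ : s.Step e₂)
    (hm : m ∈ Word H y c) (hw : ¬ s.Good (e₁ * m * e₂)) {h : G} (hh : s.Gen h) :
    ¬ s.Good (y * (h⁻¹ * (e₁ * m))) := by
  intro hgood
  obtain ⟨z, hz, hwz⟩ := s.crit_word hF hmin hc h₁ h₂ hm hw
  obtain ⟨l1, -⟩ := s.ends_le hF hmin hc.le h₁ h₂ hm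
  set x := e₁ * m with hx
  have hxz : x * (y * z * y⁻¹) * x⁻¹ = z := by
    rw [← s.step_elem h₂ (s.V_le_P hF hz.1) hz.2.2.1]
    simpa [mul_assoc] using hwz
  have hword : y * (h⁻¹ * x) ∈ Word H y (c + 1 + 1) :=
    s.word_cons (Or.inl rfl) (s.mul_word (inv_mem hh.1) (s.word_cons h₁ hm))
  have hinv := s.good_inv hF hmin (k := c + 1 + 1) (by omega) hword hgood
  obtain ⟨a, ha, haQ⟩ := SetLike.not_le_iff_exists.1 hw
  have haP : a ∈ P := l1 ha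
  have ha1 : x⁻¹ * a * x ∈ cj y (Vm H P) := by
    rw [← s.step_V hF h₂]
    rw [← cj_cj] at ha
    exact ha
  set X := cj h (cj y (Vm H P)) ⊔ Vm H P with hX
  have hzX : z ∈ X := Subgroup.mem_sup_right hz.1
  have key : ∀ l ∈ cj h (cj y (Vm H P)), a⁻¹ * l * a ∈ X := by
    intro l hl
    have hp : x⁻¹ * l * x ∈ P := by
      refine s.QP (hinv (show x⁻¹ * l * x ∈ cj (y * (h⁻¹ * x))⁻¹ (Vm H P) from ?_))
      have hl' : l ∈ cj (h * y⁻¹) (Vm H P) := by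
        rw [← cj_cj, s.step_V hF (Or.inr rfl)]
        exact hl
      rw [mem_cj, inv_inv]
      rw [mem_cj] at hl'
      simpa [mul_assoc] using hl'
    have hv : y⁻¹ * (x⁻¹ * a * x) * y ∈ Vm H P := ha1
    rcases hz.2.2.2 _ (s.yPX' hp) _ hv with e | e
    · have e1 : l * a * l⁻¹ = a := by
        calc l * a * l⁻¹ = x * (y * ((y⁻¹ * (x⁻¹ * l * x) * y) * (y⁻¹ * (x⁻¹ * a * x) * y) *
              (y⁻¹ * (x⁻¹ * l * x) * y)⁻¹) * y⁻¹) * x⁻¹ := by group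
          _ = a := by rw [e]; group
      rw [mul_inv_eq_iff_eq_mul] at e1
      rw [show a⁻¹ * l * a = a⁻¹ * (l * a) by group, e1, inv_mul_cancel_left]
      exact Subgroup.mem_sup_left hl
    · have e1 : l * a * l⁻¹ = z * a := by
        calc l * a * l⁻¹ = x * (y * ((y⁻¹ * (x⁻¹ * l * x) * y) * (y⁻¹ * (x⁻¹ * a * x) * y) *
              (y⁻¹ * (x⁻¹ * l * x) * y)⁻¹) * y⁻¹) * x⁻¹ := by group
          _ = (x * (y * z * y⁻¹) * x⁻¹) * a := by rw [e]; group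
          _ = z * a := by rw [hxz]
      have e2 : a⁻¹ * l * a = z * l := by
        have haz := mem_fixer.1 (hz.2.2.1 (inv_mem haP))
        calc a⁻¹ * l * a = a⁻¹ * (l * a * l⁻¹) * l := by group
          _ = (a⁻¹ * z) * a * l := by rw [e1]; group
          _ = z * l := by rw [haz]; group
      rw [e2]
      exact mul_mem hzX (Subgroup.mem_sup_left hl)
  have hainv : a⁻¹ ∈ stab X := by
    refine stab_of_le ?_
    rw [hX, cj_sup, s.cj_V hF (inv_mem (s.PH haP))]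
    refine sup_le (fun l hl => ?_) le_sup_right
    have h1 := key _ hl
    simpa [mul_assoc] using h1
  have hcP : cj h P ≤ stab X := by
    intro p hp
    have hp' : h⁻¹ * p * h ∈ P := hp
    have hpH : p ∈ H := by
      have := mul_mem (mul_mem hh.1 (s.PH hp')) (inv_mem hh.1)
      simpa [mul_assoc] using this
    rw [mem_stab, hX, cj_sup, s.cj_V hF hpH, cj_cj, show p * h = h * (h⁻¹ * p * h) by group,
      ← cj_cj, s.stab_V1 hF hp']
  have hHX := s.H_le_of_conj hh hcP haP haQ (by simpa using inv_mem hainv)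
  have hX0 : X = cj y (Vm H P) ⊔ Vm H P := by
    have h1 : cj h (cj y (Vm H P) ⊔ Vm H P) = X := by rw [cj_sup, s.cj_V hF hh.1]
    calc X = cj h⁻¹ X := (hHX (inv_mem hh.1)).symm
      _ = cj y (Vm H P) ⊔ Vm H P := by rw [← h1, cj_inv_cj]
  have h1Q : cj y (Vm H P) ≤ Q := by
    have := hmin 1 (by omega) (y * 1) (s.word_cons (Or.inl rfl) (one_mem H))
    rwa [Good, mul_one] at this
  refine s.V_ne_bot hF (le_bot_iff.1 ?_)
  rw [← s.nonormal X (by rw [hX0]; exact sup_le h1Q (s.V_le_Q hF)) (fun g hg => hHX hg)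
    (by rw [hX0, cj_sup, s.y_y_V hF, sup_comm])]
  exact le_sup_right

/-- The other transvection element is central for critical words of length two. -/
theorem central_two (hB : B = 2) {e₁ e₂ m : G} (h₁ : s.Step e₁) (h₂ : s.Step e₂) (hm : m ∈ H)
    (hw : ¬ s.Good (e₁ * m * e₂)) :
    ∃ z, s.Tr z ∧ H ≤ fixer (y * z * y⁻¹) := by
  obtain ⟨g, hg, -⟩ := s.exists_gen_odd
  have hs := s.shift hF hmin (c := 0) hB.symm h₁ h₂ hm hw hg
  rw [show y * (g⁻¹ * (e₁ * m)) = y * g⁻¹ * e₁ * m by group, s.good_right hF hm] at hs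
  obtain ⟨z, hz, e⟩ := s.crit_word hF hmin (c := 0) hB.symm (Or.inl rfl) h₁
    (m := g⁻¹) (inv_mem hg.1) hs
  refine ⟨z, hz, s.central_of_gen (s.gen_inv hg) (s.Tr_mem hF hz |> s.Zset_y).2.2 ?_⟩
  have e1 := s.step_elem h₁ (s.V_le_P hF hz.1) hz.2.2.1
  have e2 : y * (g⁻¹ * (y * z * y⁻¹) * g⁻¹⁻¹) * y⁻¹ = y * (y * z * y⁻¹) * y⁻¹ := by
    rw [s.Tr_y hF hz, ← e1]
    simpa [mul_assoc] using e
  exact mul_left_cancel (mul_right_cancel e2)

/-- In a critical word of length at least three the first part fixes both transvection elements. -/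
theorem fix_three {c : ℕ} (hc : c + 3 = B) {e₁ e₃ e₂ m h₃ : G} (h₁ : s.Step e₁) (he₃ : s.Step e₃)
    (h₂ : s.Step e₂) (hm : m ∈ Word H y c) (hh₃ : h₃ ∈ H)
    (hw : ¬ s.Good (e₁ * (m * e₃ * h₃) * e₂)) :
    ∃ z, s.Tr z ∧ H ≤ fixer (y * z * y⁻¹) ∧ e₁ * m * z * (e₁ * m)⁻¹ = z ∧
      e₁ * m * (y * z * y⁻¹) * (e₁ * m)⁻¹ = y * z * y⁻¹ := by
  have hm' : m * e₃ * h₃ ∈ Word H y (c + 1) := s.word_mul (s.word_snoc hm he₃) hh₃
  obtain ⟨z, hz, hwz⟩ := s.crit_word hF hmin (c := c + 1) (by omega) h₁ h₂ hm' hw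
  obtain ⟨l1, -⟩ := s.ends_le hF hmin (c := c + 1) (by omega) h₁ h₂ hm'
  set z₁ := y * z * y⁻¹ with hz₁
  obtain ⟨hz₁P, hz₁2, hz₁c⟩ : z₁ ∈ Zset P := s.Zset_y (s.Tr_mem hF hz)
  obtain ⟨g, hg, -⟩ := s.exists_gen_odd
  have hs := s.shift hF hmin (c := c + 1) (by omega) h₁ h₂ hm' hw hg
  rw [show y * (g⁻¹ * (e₁ * (m * e₃ * h₃))) = y * (g⁻¹ * (e₁ * m)) * e₃ * h₃ by group,
    s.good_right hF hh₃] at hs
  obtain ⟨z', hz', e⟩ := s.crit_word hF hmin (c := c + 1) (by omega) (Or.inl rfl) he₃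
    (s.mul_word (inv_mem hg.1) (s.word_cons h₁ hm)) hs
  obtain rfl := s.Tr_unique hF hz hz'
  have e3 : e₃ * z * e₃⁻¹ = z₁ := s.step_elem he₃ (s.V_le_P hF hz.1) hz.2.2.1
  have e4 : e₁ * m * z₁ * (e₁ * m)⁻¹ = g * z₁ * g⁻¹ := by
    have : y * (g⁻¹ * (e₁ * m * z₁ * (e₁ * m)⁻¹) * g) * y⁻¹ = y * z₁ * y⁻¹ := by
      rw [hz₁, s.Tr_y hF hz, ← s.step_elem he₃ (s.V_le_P hF hz.1) hz.2.2.1]
      simpa [mul_assoc] using e
    have := mul_left_cancel (mul_right_cancel this)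
    conv_rhs => rw [← this]
    group
  obtain ⟨a, ha, haQ⟩ := SetLike.not_le_iff_exists.1 hw
  have hk : H ≤ fixer (g * z₁ * g⁻¹) := by
    refine s.H_le_of_conj hg (fun p hp => ?_) (l1 ha) haQ ?_
    · have h := mem_fixer.1 (hz₁c (hp : g⁻¹ * p * g ∈ P))
      rw [mem_fixer]
      calc p * (g * z₁ * g⁻¹) = g * ((g⁻¹ * p * g) * z₁) * g⁻¹ := by group
        _ = g * (z₁ * (g⁻¹ * p * g)) * g⁻¹ := by rw [h]
        _ = g * z₁ * g⁻¹ * p := by group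
    · rw [← e4, mem_fixer]
      have h1 : cj h₃ (cj e₂ (Vm H P)) ≤ Q := by
        refine (cj_mono h₃ (?_ : cj e₂ (Vm H P) ≤ Q)).trans (s.cj_Q hh₃).le
        have := hmin 1 (by omega) (e₂ * 1) (s.word_cons h₂ (one_mem H))
        rwa [Good, mul_one] at this
      have h2 : (e₁ * m)⁻¹ * a * (e₁ * m) ∈ P := by
        refine s.U_le_P ((?_ : cj e₃ (cj h₃ (cj e₂ (Vm H P))) ≤ cj y Q) ?_)
        · rw [← s.step_Q he₃]; exact cj_mono e₃ h1
        · rw [cj_cj, cj_cj, mem_cj]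
          have := mem_cj.1 ha
          simpa [mul_assoc] using this
      have h3 := mem_fixer.1 (hz₁c h2)
      calc a * (e₁ * m * z₁ * (e₁ * m)⁻¹)
          = e₁ * m * (((e₁ * m)⁻¹ * a * (e₁ * m)) * z₁) * (e₁ * m)⁻¹ := by group
        _ = e₁ * m * (z₁ * ((e₁ * m)⁻¹ * a * (e₁ * m))) * (e₁ * m)⁻¹ := by rw [h3]
        _ = e₁ * m * z₁ * (e₁ * m)⁻¹ * a := by group
  have hzc : H ≤ fixer z₁ := by
    have h2 := mem_fixer_iff_conj.1 (hk (inv_mem hg.1))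
    have h0 : g⁻¹ * (g * z₁ * g⁻¹) * g⁻¹⁻¹ = z₁ := by group
    rw [h0] at h2
    rwa [← h2] at hk
  refine ⟨z, hz, hzc, ?_, by rw [e4, mem_fixer_iff_conj.1 (hzc hg.1)]⟩
  have e2 : e₂ * z * e₂⁻¹ = z₁ := s.step_elem h₂ (s.V_le_P hF hz.1) hz.2.2.1
  have e5 : h₃ * z₁ * h₃⁻¹ = z₁ := mem_fixer_iff_conj.1 (hzc hh₃)
  have e6 : e₃ * z₁ * e₃⁻¹ = z := by
    rw [s.step_elem he₃ hz₁P hz₁c, hz₁, s.Tr_y hF hz]
  calc e₁ * m * z * (e₁ * m)⁻¹
      = e₁ * m * (e₃ * (h₃ * (e₂ * z * e₂⁻¹) * h₃⁻¹) * e₃⁻¹) * (e₁ * m)⁻¹ := by rw [e2, e5, e6]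
    _ = e₁ * (m * e₃ * h₃) * e₂ * z * (e₁ * (m * e₃ * h₃) * e₂)⁻¹ := by group
    _ = z := hwz

theorem three_false {c : ℕ} (hc : c + 3 = B) {e₁ e₃ e₂ m h₃ : G} (h₁ : s.Step e₁)
    (he₃ : s.Step e₃) (h₂ : s.Step e₂) (hm : m ∈ Word H y c) (hh₃ : h₃ ∈ H)
    (hw : ¬ s.Good (e₁ * (m * e₃ * h₃) * e₂)) : False := by
  obtain ⟨z, hz, hzc, -, -⟩ := s.fix_three hF hmin hc h₁ he₃ h₂ hm hh₃ hw
  obtain ⟨g, hg, -⟩ := s.exists_gen_odd
  have hm' : m * e₃ * h₃ ∈ Word H y (c + 1) := s.word_mul (s.word_snoc hm he₃) hh₃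
  have bad : ∀ h, s.Gen h → ¬ s.Good (y * (h⁻¹ * (e₁ * m)) * e₃) := by
    intro h hh
    have hs := s.shift hF hmin (c := c + 1) (by omega) h₁ h₂ hm' hw hh
    rwa [show y * (h⁻¹ * (e₁ * (m * e₃ * h₃))) = y * (h⁻¹ * (e₁ * m)) * e₃ * h₃ by group,
      s.good_right hF hh₃] at hs
  have hyz : y * (y * z * y⁻¹) * y⁻¹ = z := s.Tr_y hF hz
  cases c with
  | zero =>
    obtain ⟨z', hz', -, e, -⟩ := s.fix_three hF hmin (c := 0) hc (Or.inl rfl) h₁ he₃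
      (m := g⁻¹) (inv_mem hg.1) (h₃ := m) hm (by
        have := bad g hg
        rwa [show y * (g⁻¹ * (e₁ * m)) = y * (g⁻¹ * e₁ * m) by group] at this)
    obtain rfl := s.Tr_unique hF hz hz'
    refine s.Tr_not_central hF hz ?_
    have e' : y * (g⁻¹ * z * g) * y⁻¹ = y * (y * z * y⁻¹) * y⁻¹ := by
      rw [hyz]; simpa [mul_assoc] using e
    have h1 := mul_left_cancel (mul_right_cancel e')
    have h2 : z = y * z * y⁻¹ := by
      conv_lhs => rw [show z = g * (g⁻¹ * z * g) * g⁻¹ by group, h1, mem_fixer_iff_conj.1 (hzc hg.1)]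
    rw [h2]; exact hzc
  | succ c =>
    obtain ⟨m', hm'', e₄, he₄, h₄, hh₄, rfl⟩ := s.word_last hm
    have key : ∀ h, s.Gen h →
        e₁ * m' * (y * z * y⁻¹) * (e₁ * m')⁻¹ = h * z * h⁻¹ := by
      intro h hh
      obtain ⟨z', hz', -, -, e⟩ := s.fix_three hF hmin (c := c + 1) hc (Or.inl rfl) he₄ he₃
        (s.mul_word (inv_mem hh.1) (s.word_cons h₁ hm'')) hh₄ (by
          have := bad h hh
          rwa [show y * (h⁻¹ * (e₁ * (m' * e₄ * h₄))) = y * (h⁻¹ * (e₁ * m') * e₄ * h₄) by group]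
            at this)
      obtain rfl := s.Tr_unique hF hz hz'
      have e' : y * (h⁻¹ * (e₁ * m' * (y * z * y⁻¹) * (e₁ * m')⁻¹) * h) * y⁻¹ = y * z * y⁻¹ := by
        simpa [mul_assoc] using e
      have h1 := mul_left_cancel (mul_right_cancel e')
      conv_rhs => rw [← h1]
      group
    have h2 := (key g hg).symm.trans (key g⁻¹ (s.gen_inv hg))
    refine s.Tr_not_central hF hz (s.central_of_gen (s.gen_sq hg) hz.2.2.1 ?_)
    rw [show g * g * z * (g * g)⁻¹ = g * (g * z * g⁻¹) * g⁻¹ by group, h2]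
    group

end Setup

end CfsgLib.PushDihedral
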