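import Cfsg.Agent.Lib.PushDihedral.Basic

/-!
The module generated by the conjugates of the central involutions of `P`, and critical words.
-/

set_option autoImplicit false
set_option linter.unusedSectionVars false
set_option linter.style.haveILetI false

namespace CfsgLib.PushDihedral

variable {G : Type*} [Group G]

/-- The central elements of order at most two. -/
def Zset (P : Subgroup G) : Set G := {z | z ∈ P ∧ z * z = 1 ∧ P ≤ fixer z}

/-- The module. -/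
def Vm (H P : Subgroup G) : Subgroup G :=
  Subgroup.closure {v | ∃ h ∈ H, ∃ z ∈ Zset P, v = h * z * h⁻¹}

theorem mem_Vm_of_mem {H P : Subgroup G} {z : G} (hz : z ∈ Zset P) : z ∈ Vm H P :=
  Subgroup.subset_closure ⟨1, one_mem H, z, hz, by simp⟩

/-- Faithfulness on `Q`. -/
def Faithful (P Q : Subgroup G) : Prop := ∀ x ∈ P, x ∉ Q → ∃ q ∈ Q, x * q ≠ q * x

namespace Setup

variable {H P Q : Subgroup G} {y : G} {n : ℕ} {π : H →* DihedralGroup n}
variable (s : Setup H P Q y n π)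
include s

theorem Zset_y {z : G} (hz : z ∈ Zset P) : y * z * y⁻¹ ∈ Zset P := by
  refine ⟨s.yPX hz.1, ?_, fun p hp => ?_⟩
  · calc y * z * y⁻¹ * (y * z * y⁻¹) = y * (z * z) * y⁻¹ := by group
      _ = 1 := by rw [hz.2.1]; group
  · have h := mem_fixer.1 (hz.2.2 (s.yPX' hp))
    rw [mem_fixer]
    calc p * (y * z * y⁻¹) = y * ((y⁻¹ * p * y) * z) * y⁻¹ := by group
      _ = y * (z * (y⁻¹ * p * y)) * y⁻¹ := by rw [h]
      _ = y * z * y⁻¹ * p := by group

variable (hF : Faithful P Q)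
include hF

theorem Zset_le_Q {z : G} (hz : z ∈ Zset P) : z ∈ Q := by
  by_contra h
  obtain ⟨q, hq, hne⟩ := hF z hz.1 h
  exact hne (mem_fixer.1 (hz.2.2 (s.QP hq))).symm

theorem V_le_Q : Vm H P ≤ Q := by
  refine (Subgroup.closure_le Q).2 ?_
  rintro _ ⟨h, hh, z, hz, rfl⟩
  exact s.conj_Q hh (s.Zset_le_Q hF hz)

theorem V_le_P : Vm H P ≤ P := (s.V_le_Q hF).trans s.QP

theorem V_comm_Q {v q : G} (hv : v ∈ Vm H P) (hq : q ∈ Q) : q * v = v * q := by
  suffices Vm H P ≤ fixer q from (mem_fixer.1 (this hv)).symm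
  refine (Subgroup.closure_le _).2 ?_
  rintro _ ⟨h, hh, z, hz, rfl⟩
  have h1 : h⁻¹ * q * h ∈ Q := by simpa using s.conj_Q (inv_mem hh) hq
  have h2 := mem_fixer.1 (hz.2.2 (s.QP h1))
  rw [SetLike.mem_coe, mem_fixer]
  calc h * z * h⁻¹ * q = h * (z * (h⁻¹ * q * h)) * h⁻¹ := by group
    _ = h * ((h⁻¹ * q * h) * z) * h⁻¹ := by rw [h2]
    _ = q * (h * z * h⁻¹) := by group

theorem V_sq {v : G} (hv : v ∈ Vm H P) : v * v = 1 := by
  induction hv using Subgroup.closure_induction with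
  | mem x hx =>
    obtain ⟨h, hh, z, hz, rfl⟩ := hx
    calc h * z * h⁻¹ * (h * z * h⁻¹) = h * (z * z) * h⁻¹ := by group
      _ = 1 := by rw [hz.2.1]; group
  | one => simp
  | mul a b ha hb iha ihb =>
    calc a * b * (a * b) = a * (b * a) * b := by group
      _ = a * (a * b) * b := by rw [s.V_comm_Q hF ha (s.V_le_Q hF hb)]
      _ = 1 := by rw [show a * (a * b) * b = (a * a) * (b * b) by group, iha, ihb, one_mul]
  | inv a ha iha => rw [← mul_inv_rev, iha, inv_one]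

theorem cj_V_le {h : G} (hh : h ∈ H) : cj h (Vm H P) ≤ Vm H P := by
  rw [show cj h (Vm H P) ≤ Vm H P ↔ Vm H P ≤ cj h⁻¹ (Vm H P) by rw [le_cj_iff, inv_inv]]
  refine (Subgroup.closure_le _).2 ?_
  rintro _ ⟨k, hk, z, hz, rfl⟩
  rw [SetLike.mem_coe, mem_cj, inv_inv]
  exact Subgroup.subset_closure ⟨h * k, mul_mem hh hk, z, hz, by group⟩

theorem cj_V {h : G} (hh : h ∈ H) : cj h (Vm H P) = Vm H P := by
  refine le_antisymm (s.cj_V_le hF hh) ?_
  have := cj_mono h (s.cj_V_le hF (inv_mem hh))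
  rwa [cj_cj_inv] at this

theorem conj_V {h v : G} (hh : h ∈ H) (hv : v ∈ Vm H P) : h * v * h⁻¹ ∈ Vm H P := by
  have := conj_mem_cj (g := h) hv
  rwa [s.cj_V hF hh] at this

theorem P_le_stab_V : P ≤ stab (Vm H P) := fun _ hp => s.cj_V hF (s.PH hp)

theorem step_V {e : G} (he : s.Step e) : cj e (Vm H P) = cj y (Vm H P) :=
  s.step_eq he (s.V_le_P hF) (s.P_le_stab_V hF)

theorem y_y_V : cj y (cj y (Vm H P)) = Vm H P := s.y_twice (s.V_le_P hF) (s.P_le_stab_V hF)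

theorem V1_le_U : cj y (Vm H P) ≤ cj y Q := cj_mono y (s.V_le_Q hF)

theorem V1_le_P : cj y (Vm H P) ≤ P := (s.V1_le_U hF).trans s.U_le_P

theorem stab_V1 : P ≤ stab (cj y (Vm H P)) := by
  intro p hp
  rw [mem_stab, cj_cj, show p * y = y * (y⁻¹ * p * y) by group, ← cj_cj,
    s.cj_V hF (s.PH (s.yPX' hp))]

theorem V_ne_bot [Finite G] : Vm H P ≠ ⊥ := by
  intro h
  obtain ⟨a, ha, haQ⟩ := s.exists_out
  haveI : Fact (Nat.Prime 2) := ⟨Nat.prime_two⟩
  have hne : P ≠ ⊥ := by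
    rintro rfl
    rw [Subgroup.mem_bot] at ha
    exact haQ (ha ▸ one_mem Q)
  haveI : Nontrivial P := P.nontrivial_iff_ne_bot.2 hne
  haveI := s.two.center_nontrivial
  obtain ⟨k, hk, hcard⟩ := (s.two.to_subgroup (Subgroup.center P)).nontrivial_iff_card.1 inferInstance
  obtain ⟨⟨⟨z, hzP⟩, hzc⟩, hz⟩ := exists_prime_orderOf_dvd_card' (G := Subgroup.center P) 2
    (hcard ▸ dvd_pow_self 2 (Nat.pos_iff_ne_zero.1 hk))
  have hz2 := pow_orderOf_eq_one (⟨⟨z, hzP⟩, hzc⟩ : Subgroup.center P)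
  rw [hz, pow_two] at hz2
  have hzz : z ∈ Zset P := ⟨hzP, congrArg (fun x : Subgroup.center P => ((x : P) : G)) hz2, fun p hp =>
    mem_fixer.2 (congrArg Subtype.val (Subgroup.mem_center_iff.1 hzc ⟨p, hp⟩))⟩
  have h1 : z ∈ (⊥ : Subgroup G) := h ▸ mem_Vm_of_mem hzz
  rw [Subgroup.mem_bot] at h1
  subst h1
  simp at hz

/-- `V` is not centralised by a generating rotation together with fixed points. -/
theorem not_central_Z [Finite G] : ¬ H ≤ Subgroup.centralizer (Zset P) := by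
  intro hc
  refine s.V_ne_bot hF (s.nonormal _ (s.V_le_Q hF) (fun h hh => s.cj_V hF hh) ?_)
  refine stab_of_le ?_
  rw [show cj y (Vm H P) ≤ Vm H P ↔ Vm H P ≤ cj y⁻¹ (Vm H P) by rw [le_cj_iff, inv_inv]]
  refine (Subgroup.closure_le _).2 ?_
  rintro _ ⟨h, hh, z, hz, rfl⟩
  have h1 := Subgroup.mem_centralizer_iff.1 (hc hh) z hz
  rw [show h * z * h⁻¹ = z by rw [← h1]; group, SetLike.mem_coe, mem_cj, inv_inv]
  exact mem_Vm_of_mem (s.Zset_y hz)

theorem moves [Finite G] {a : G} (ha : a ∈ P) (haQ : a ∉ Q) : ∃ v ∈ Vm H P, a * v * a⁻¹ ≠ v := by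
  by_contra hn
  push Not at hn
  obtain ⟨g, hg, -⟩ := s.exists_gen_odd
  set L := H ⊓ Subgroup.centralizer (Vm H P : Set G)
  have haL : a ∈ L := ⟨s.PH ha, Subgroup.mem_centralizer_iff.2 fun v hv =>
    (mul_inv_eq_iff_eq_mul.1 (hn v hv)).symm⟩
  have hQL : Q ≤ L := le_inf s.QH fun q hq => Subgroup.mem_centralizer_iff.2 fun v hv =>
    (s.V_comm_Q hF hv hq).symm
  obtain ⟨hm, i, hi, e⟩ := s.gen_mul_conj hg ha haQ
  have hgL : g * a * g⁻¹ ∈ L := by
    refine Subgroup.mem_inf.2 ⟨mul_mem (mul_mem hg.1 (s.PH ha)) (inv_mem hg.1),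
      Subgroup.mem_centralizer_iff.2 fun v hv => ?_⟩
    have h1 := hn _ (s.conj_V hF (inv_mem hg.1) hv)
    rw [mul_inv_eq_iff_eq_mul] at h1
    calc v * (g * a * g⁻¹) = g * ((g⁻¹ * v * g⁻¹⁻¹) * a) * g⁻¹ := by group
      _ = g * (a * (g⁻¹ * v * g⁻¹⁻¹)) * g⁻¹ := by rw [h1]
      _ = g * a * g⁻¹ * v := by group
  have hH := s.H_le L hQL ha haQ haL hm hi e (mul_mem haL hgL)
  exact s.not_central_Z hF fun h hh => Subgroup.centralizer_le
    (fun z hz => mem_Vm_of_mem hz) (hH hh).2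

/-- An element of `P` centralising `V` lies in `Q`. -/
theorem mem_Q_of_comm [Finite G] {x : G} (hx : x ∈ P) (h : ∀ v ∈ Vm H P, x * v = v * x) : x ∈ Q := by
  by_contra hQ
  obtain ⟨v, hv, hne⟩ := s.moves hF hx hQ
  exact hne (mul_inv_eq_iff_eq_mul.2 (h v hv))

/-- The transvection element. -/
def Tr (_ : Setup H P Q y n π) (z : G) : Prop :=
  z ∈ Vm H P ∧ z ≠ 1 ∧ P ≤ fixer z ∧
    ∀ x ∈ P, ∀ v ∈ Vm H P, x * v * x⁻¹ = v ∨ x * v * x⁻¹ = z * v

theorem Tr_moved [Finite G] {z : G} (hz : s.Tr z) {x v : G} (hx : x ∈ P) (hv : v ∈ Vm H P)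
    (hne : x * v * x⁻¹ ≠ v) : x * v * x⁻¹ = z * v :=
  (hz.2.2.2 x hx v hv).resolve_left hne

theorem Tr_unique [Finite G] {z z' : G} (hz : s.Tr z) (hz' : s.Tr z') : z = z' := by
  obtain ⟨a, ha, haQ⟩ := s.exists_out
  obtain ⟨v, hv, hne⟩ := s.moves hF ha haQ
  exact mul_right_cancel ((s.Tr_moved hF hz ha hv hne).symm.trans (s.Tr_moved hF hz' ha hv hne))

theorem Tr_mem [Finite G] {z : G} (hz : s.Tr z) : z ∈ Zset P :=
  ⟨s.V_le_P hF hz.1, s.V_sq hF hz.1, hz.2.2.1⟩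

theorem Tr_y [Finite G] {z : G} (hz : s.Tr z) : y * (y * z * y⁻¹) * y⁻¹ = z :=
  s.y_twice_elem (s.V_le_P hF hz.1) hz.2.2.1

/-- The transvection element is not central in `H`. -/
theorem Tr_not_central [Finite G] {z : G} (hz : s.Tr z) : ¬ H ≤ fixer z := by
  intro hc
  obtain ⟨a, ha, haQ⟩ := s.exists_out
  obtain ⟨g, hg, hodd⟩ := s.exists_gen_odd
  have zc : ∀ h ∈ H, h * z * h⁻¹ = z := fun h hh => mem_fixer_iff_conj.1 (hc hh)
  let T : Subgroup G :=
    { carrier := {h | h ∈ H ∧ ∀ v ∈ Vm H P, h * v * h⁻¹ = v ∨ h * v * h⁻¹ = z * v}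
      one_mem' := ⟨one_mem H, fun v _ => Or.inl (by simp)⟩
      mul_mem' := by
        rintro a b ⟨haH, ha⟩ ⟨hbH, hb⟩
        refine ⟨mul_mem haH hbH, fun v hv => ?_⟩
        rw [show a * b * v * (a * b)⁻¹ = a * (b * v * b⁻¹) * a⁻¹ by group]
        rcases hb v hv with h | h <;> rw [h]
        · exact ha v hv
        · rw [show a * (z * v) * a⁻¹ = (a * z * a⁻¹) * (a * v * a⁻¹) by group, zc a haH]
          rcases ha v hv with h2 | h2 <;> rw [h2]
          · exact Or.inr rfl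
          · exact Or.inl (by rw [← mul_assoc, s.V_sq hF hz.1, one_mul])
      inv_mem' := by
        rintro a ⟨haH, ha⟩
        refine ⟨inv_mem haH, fun v hv => ?_⟩
        have hv' := s.conj_V hF (inv_mem haH) hv
        rcases ha _ hv' with h | h
        · left
          calc a⁻¹ * v * a⁻¹⁻¹ = a * (a⁻¹ * v * a⁻¹⁻¹) * a⁻¹ := h.symm
            _ = v := by group
        · right
          have e : v = z * (a⁻¹ * v * a⁻¹⁻¹) := by
            rw [← h]; group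
          nth_rw 2 [e]
          rw [← mul_assoc, s.V_sq hF hz.1, one_mul] }
  have haT : a ∈ T := ⟨s.PH ha, fun v hv => hz.2.2.2 a ha v hv⟩
  have hQT : Q ≤ T := fun q hq => ⟨s.QH hq, fun v hv => Or.inl
    (mul_inv_eq_iff_eq_mul.2 (s.V_comm_Q hF hv hq))⟩
  have hgaT : g * a * g⁻¹ ∈ T := by
    refine ⟨mul_mem (mul_mem hg.1 (s.PH ha)) (inv_mem hg.1), fun v hv => ?_⟩
    have hv' := s.conj_V hF (inv_mem hg.1) hv
    rcases hz.2.2.2 a ha _ hv' with h | h
    · left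
      calc g * a * g⁻¹ * v * (g * a * g⁻¹)⁻¹ = g * (a * (g⁻¹ * v * g⁻¹⁻¹) * a⁻¹) * g⁻¹ := by group
        _ = v := by rw [h]; group
    · right
      calc g * a * g⁻¹ * v * (g * a * g⁻¹)⁻¹ = g * (a * (g⁻¹ * v * g⁻¹⁻¹) * a⁻¹) * g⁻¹ := by group
        _ = (g * z * g⁻¹) * v := by rw [h]; group
        _ = z * v := by rw [zc g hg.1]
  obtain ⟨hm, i, hi, e⟩ := s.gen_mul_conj hg ha haQ
  have hgT := (s.H_le T hQT ha haQ haT hm hi e (mul_mem haT hgaT)) hg.1
  have hgV : ∀ v ∈ Vm H P, g * v * g⁻¹ = v := by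
    intro v hv
    have h2 : g * g ∈ fixer v := by
      rw [mem_fixer_iff_conj, show g * g * v * (g * g)⁻¹ = g * (g * v * g⁻¹) * g⁻¹ by group]
      rcases hgT.2 v hv with h3 | h3 <;> rw [h3]
      · exact h3
      · rw [show g * (z * v) * g⁻¹ = (g * z * g⁻¹) * (g * v * g⁻¹) by group, zc g hg.1, h3,
          ← mul_assoc, s.V_sq hF hz.1, one_mul]
    obtain ⟨m, hm⟩ := hodd
    have h3 := pow_mem h2 (m + 1)
    rw [← pow_two, ← pow_mul, show 2 * (m + 1) = orderOf g + 1 by omega, pow_succ,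
      pow_orderOf_eq_one, one_mul] at h3
    exact mem_fixer_iff_conj.1 h3
  have hgc : H ≤ Subgroup.centralizer (Zset P) := s.gen_le hg
    (fun p hp => Subgroup.mem_centralizer_iff.2 fun x hx => (mem_fixer.1 (hx.2.2 hp)).symm)
    (Subgroup.mem_centralizer_iff.2 fun x hx =>
      (mul_inv_eq_iff_eq_mul.1 (hgV x (mem_Vm_of_mem hx))).symm)
  exact s.not_central_Z hF hgc

end Setup

end CfsgLib.PushDihedral
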