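import Cfsg.Agent.Lib.PushDihedral.Two

/-!
Critical words of length one: the structure of `Q`.
-/

set_option autoImplicit false
set_option linter.unusedSectionVars false
set_option linter.style.haveILetI false

namespace CfsgLib.PushDihedral

variable {G : Type*} [Group G]

namespace Setup

variable {H P Q : Subgroup G} {y : G} {n : ℕ} {π : H →* DihedralGroup n}
variable (s : Setup H P Q y n π) [Finite G]
include s

/-- A generating rotation of odd order inverted by a given involution outside `Q`. -/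
theorem exists_inverted {a : G} (ha : a ∈ P) (haQ : a ∉ Q) (ha2 : a * a = 1) :
    ∃ g, s.Gen g ∧ Odd (orderOf g) ∧ a * g * a⁻¹ = g⁻¹ := by
  haveI := s.neZero
  obtain ⟨g, hg, -⟩ := s.exists_gen_odd
  set x := a * (g * a * g⁻¹) with hx
  obtain ⟨k, l, hl, e⟩ := Nat.exists_eq_two_pow_mul_odd (orderOf_pos x).ne'
  obtain ⟨hm, i, hi, eπ⟩ := s.gen_mul_conj hg ha haQ
  have ai : a⁻¹ = a := inv_eq_of_mul_eq_one_right ha2
  refine ⟨x ^ 2 ^ k, ⟨pow_mem hm _, i * ((2 ^ k : ℕ) : ZMod n), hi.mul ?_, ?_⟩, ?_, ?_⟩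
  · push_cast; exact s.two_unit.pow k
  · rw [show (⟨x ^ 2 ^ k, pow_mem hm _⟩ : H) = ⟨x, hm⟩ ^ 2 ^ k from Subtype.ext (by simp),
      map_pow, eπ, DihedralGroup.r_pow]
  · rw [orderOf_pow' _ (Nat.two_pow_pos k).ne', e, Nat.gcd_eq_right (dvd_mul_right _ _),
      Nat.mul_div_cancel_left _ (Nat.two_pow_pos k)]
    exact hl
  · rw [← conj_pow, ← inv_pow]
    congr 1
    rw [hx, mul_inv_rev, mul_inv_rev, mul_inv_rev, inv_inv, ai]
    calc a * (a * (g * a * g⁻¹)) * a = (a * a) * (g * a * g⁻¹) * a := by group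
      _ = g * (a * g⁻¹) * a := by rw [ha2]; group

/-- The normal form of the elements of `H`. -/
theorem decomp {g a : G} (hg : s.Gen g) (ha : a ∈ P) (haQ : a ∉ Q) {h : G} (hh : h ∈ H) :
    ∃ q ∈ Q, ∃ m : ℕ, h = q * g ^ m ∨ h = q * g ^ m * a := by
  haveI := s.neZero
  obtain ⟨hgH, i, hi, e⟩ := hg
  obtain ⟨u, rfl⟩ := hi
  obtain ⟨j, hj, -⟩ := s.out_sr a ha haQ a ha haQ
  have hpow : ∀ k : ZMod n, π (⟨g, hgH⟩ ^ ((↑u⁻¹ : ZMod n) * k).val) = DihedralGroup.r k := fun k => by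
    rw [map_pow, e, DihedralGroup.r_pow, ZMod.natCast_zmod_val, ← mul_assoc, Units.mul_inv, one_mul]
  rcases hk : π ⟨h, hh⟩ with k | k
  · set N := ((↑u⁻¹ : ZMod n) * k).val with hN
    have h1 : π (⟨h, hh⟩ * (⟨g, hgH⟩ ^ N)⁻¹) = 1 := by
      rw [map_mul, map_inv, hpow, hk, mul_inv_cancel]
    exact ⟨_, (s.ker _).1 h1, N, Or.inl (by simp)⟩
  · set N := ((↑u⁻¹ : ZMod n) * (j - k)).val with hN
    have h1 : π (⟨h, hh⟩ * (⟨g, hgH⟩ ^ N * ⟨a, s.PH ha⟩)⁻¹) = 1 := by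
      rw [map_mul, map_inv, map_mul, hpow, hk, hj, DihedralGroup.r_mul_sr, sub_sub_cancel,
        mul_inv_cancel]
    exact ⟨_, (s.ker _).1 h1, N, Or.inr (by simp [mul_assoc])⟩

/-- The structure found for critical words of length one. -/
structure Shape (C : Subgroup G) (g a z : G) : Prop where
  gen : s.Gen g
  godd : Odd (orderOf g)
  aP : a ∈ P
  aQ : a ∉ Q
  a2 : a * a = 1
  inv : a * g * a⁻¹ = g⁻¹
  C_le : C ≤ Q
  C_card : Nat.card C ≤ 2
  C_sq : ∀ c ∈ C, c * c = 1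
  C_central : ∀ c ∈ C, H ≤ fixer c
  C_mem : ∀ q ∈ Q, g * q = q * g → a * q = q * a → q ∈ C
  zQ : z ∈ Q
  z2 : z * z = 1
  Q_comm : ∀ q ∈ Q, ∀ r ∈ Q, q * r = r * q
  Q_sq : ∀ q ∈ Q, q * q = 1
  az : a * z * a⁻¹ = z
  az' : a * (g * z * g⁻¹) * a⁻¹ = z * (g * z * g⁻¹)
  ggz : g * (g * z * g⁻¹) * g⁻¹ = z * (g * z * g⁻¹)
  g3 : ∀ q ∈ Q, g ^ 3 * q = q * g ^ 3
  gz : g * z * g⁻¹ ≠ z
  gggz : g * g * z * (g * g)⁻¹ ≠ z
  z_ne : z ≠ 1
  split : ∀ q ∈ Q, ∃ c ∈ C, q = c ∨ q = c * z ∨ q = c * (g * z * g⁻¹) ∨ q = c * (z * (g * z * g⁻¹))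

theorem one_shape (hF : Faithful P Q) (h1 : ¬ cj y (Vm H P) ≤ Q) :
    ∃ C g a z, s.Shape C g a z := by
  have hV1 : cj y (Vm H P) ≤ P := s.V1_le_P hF
  have hinvV : cj y⁻¹ (Vm H P) = cj y (Vm H P) := s.step_V hF (Or.inr rfl)
  obtain ⟨z, hz, hyz⟩ := s.crit hF hV1 (hinvV ▸ hV1) h1 (fun h => h1 (hinvV ▸ h))
  obtain ⟨hzP, hz2, hzc⟩ : z ∈ Zset P := s.Tr_mem hF hz
  have hVU : ¬ Vm H P ≤ cj y Q := fun h => h1 ((cj_mono y h).trans s.y_U.le)
  obtain ⟨v₀, hv₀, hv₀U⟩ := SetLike.not_le_iff_exists.1 hVU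
  obtain ⟨a, haV, haQ⟩ := SetLike.not_le_iff_exists.1 h1
  have haP : a ∈ P := hV1 haV
  have ha2 : a * a = 1 := by
    calc a * a = y * ((y⁻¹ * a * y) * (y⁻¹ * a * y)) * y⁻¹ := by group
      _ = 1 := by rw [s.V_sq hF haV]; group
  have ai : a⁻¹ = a := inv_eq_of_mul_eq_one_right ha2
  have hR : ∀ r ∈ cj y Q, a * r * a⁻¹ = r := fun r hr => by
    have h := s.V_comm_Q hF (mem_cj.1 haV) (mem_cj.1 hr)
    rw [mul_inv_eq_iff_eq_mul]
    calc a * r = y * ((y⁻¹ * a * y) * (y⁻¹ * r * y)) * y⁻¹ := by group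
      _ = y * ((y⁻¹ * r * y) * (y⁻¹ * a * y)) * y⁻¹ := by rw [h]
      _ = r * a := by group
  have idx : ∀ {x x' : G}, x ∈ P → x ∉ cj y Q → x' ∈ P → x' ∉ cj y Q → x * x' ∈ cj y Q := by
    intro x x' hx hxU hx' hxU'
    have := s.mul_mem_Q (s.yPX' hx) hxU (s.yPX' hx') hxU'
    rw [mem_cj]
    simpa [mul_assoc] using this
  have hzz : ∀ q ∈ Q, q * z = z * q := fun q hq => s.V_comm_Q hF hz.1 hq
  have hv2 : v₀ * v₀ = 1 := s.V_sq hF hv₀
  have hsplit : ∀ q ∈ Q, q ∉ cj y Q → a * q * a⁻¹ = (a * v₀ * a⁻¹ * v₀⁻¹) * q := by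
    intro q hq hqU
    have hr := idx (s.V_le_P hF hv₀) hv₀U (s.QP hq) hqU
    calc a * q * a⁻¹ = (a * v₀ * a⁻¹) * (a * (v₀ * q) * a⁻¹) * ((v₀ * v₀)⁻¹ * 1) := by
          rw [hv2]
          calc a * q * a⁻¹ = a * ((v₀ * v₀) * q) * a⁻¹ := by rw [hv2, one_mul]
            _ = _ := by group
      _ = (a * v₀ * a⁻¹ * v₀⁻¹) * q := by
          rw [hR _ hr, hv2, inv_eq_of_mul_eq_one_right hv2]; group
  have hv₀m : a * v₀ * a⁻¹ = z * v₀ := by
    rcases hz.2.2.2 a haP v₀ hv₀ with e | e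
    · exfalso
      obtain ⟨q, hq, hne⟩ := hF a haP haQ
      refine hne (mul_inv_eq_iff_eq_mul.1 ?_)
      by_cases hqU : q ∈ cj y Q
      · exact hR q hqU
      · rw [hsplit q hq hqU, e, mul_inv_cancel, one_mul]
    · exact e
  have move : ∀ q ∈ Q, q ∉ cj y Q → a * q * a⁻¹ = z * q := fun q hq hqU => by
    rw [hsplit q hq hqU, hv₀m]; group
  have act : ∀ q ∈ Q, a * q * a⁻¹ = q ∨ a * q * a⁻¹ = z * q := fun q hq => by
    by_cases hqU : q ∈ cj y Q
    · exact Or.inl (hR q hqU)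
    · exact Or.inr (move q hq hqU)
  have haz : a * z * a⁻¹ = z := mem_fixer_iff_conj.1 (hzc haP)
  obtain ⟨g, hg, hodd, hinv⟩ := s.exists_inverted haP haQ ha2
  have hgH := hg.1
  have hsqfix : ∀ {x : G}, g * g ∈ fixer x → g ∈ fixer x := by
    intro x hx
    obtain ⟨m, hm⟩ := hodd
    have h3 := pow_mem hx (m + 1)
    rwa [← pow_two, ← pow_mul, show 2 * (m + 1) = orderOf g + 1 by omega, pow_succ,
      pow_orderOf_eq_one, one_mul] at h3
  set z' := g * z * g⁻¹ with hz'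
  have hz'V : z' ∈ Vm H P := s.conj_V hF hgH hz.1
  have hz'Q : z' ∈ Q := s.V_le_Q hF hz'V
  have hz'2 : z' * z' = 1 := s.V_sq hF hz'V
  have hgz : z' ≠ z := fun h => s.Tr_not_central hF hz (s.central_of_gen hg hzc h)
  have hg2z : g * g * z * (g * g)⁻¹ ≠ z := fun h =>
    hgz (mem_fixer_iff_conj.1 (hsqfix (mem_fixer_iff_conj.2 h)))
  have hag : a * g = g⁻¹ * a := mul_inv_eq_iff_eq_mul.1 hinv
  have hag' : a * g⁻¹ = g * a := by
    calc a * g⁻¹ = g * (g⁻¹ * a) * g⁻¹ := by group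
      _ = g * (a * g) * g⁻¹ := by rw [hag]
      _ = g * a := by group
  have haz' : a * z' * a⁻¹ = g⁻¹ * z * g := by
    calc a * z' * a⁻¹ = (a * g) * z * (g⁻¹ * a⁻¹) := by rw [hz']; group
      _ = g⁻¹ * (a * z * a⁻¹) * (a * g⁻¹ * a⁻¹) := by rw [hag]; group
      _ = g⁻¹ * z * g := by rw [haz, hag']; group
  have haz'' : a * z' * a⁻¹ = z * z' := by
    refine (hz.2.2.2 a haP z' hz'V).resolve_left fun h => hg2z ?_
    rw [haz', hz'] at h
    calc g * g * z * (g * g)⁻¹ = g * (g * z * g⁻¹) * g⁻¹ := by group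
      _ = g * (g⁻¹ * z * g) * g⁻¹ := by rw [h]
      _ = z := by group
  have hginv : g⁻¹ * z * g = z * z' := haz'.symm.trans haz''
  have hggz : g * z' * g⁻¹ = z * z' := by
    have h := congrArg (fun x => g * x * g⁻¹) hginv
    have h2 : z = z' * (g * z' * g⁻¹) := by
      calc z = g * (g⁻¹ * z * g) * g⁻¹ := by group
        _ = g * (z * z') * g⁻¹ := h
        _ = z' * (g * z' * g⁻¹) := by rw [hz']; group
    calc g * z' * g⁻¹ = z'⁻¹ * (z' * (g * z' * g⁻¹)) := by group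
      _ = z' * z := by rw [← h2, inv_eq_of_mul_eq_one_right hz'2]
      _ = z * z' := hzz _ hz'Q
  have hgzz : g * (z * z') * g⁻¹ = z := by rw [← hginv]; group
  set a' := g * a * g⁻¹ with ha'
  have haa' : a * a' = (g * g)⁻¹ := by
    rw [ha']
    calc a * (g * a * g⁻¹) = (a * g) * a * g⁻¹ := by group
      _ = g⁻¹ * (a * a) * g⁻¹ := by rw [hag]; group
      _ = (g * g)⁻¹ := by rw [ha2]; group
  have act' : ∀ q ∈ Q, a' * q * a'⁻¹ = q ∨ a' * q * a'⁻¹ = z' * q := by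
    intro q hq
    have hq' : g⁻¹ * q * g ∈ Q := by simpa using s.conj_Q (inv_mem hgH) hq
    rcases act _ hq' with e | e
    · left
      calc a' * q * a'⁻¹ = g * (a * (g⁻¹ * q * g) * a⁻¹) * g⁻¹ := by rw [ha']; group
        _ = q := by rw [e]; group
    · right
      calc a' * q * a'⁻¹ = g * (a * (g⁻¹ * q * g) * a⁻¹) * g⁻¹ := by rw [ha']; group
        _ = z' * q := by rw [e, hz']; group
  have ha'z' : a' * z' * a'⁻¹ = z' := by
    calc a' * z' * a'⁻¹ = g * (a * z * a⁻¹) * g⁻¹ := by rw [ha', hz']; group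
      _ = z' := by rw [haz]
  have ha'z : a' * z * a'⁻¹ = z' * z := by
    refine (act' z (s.V_le_Q hF hz.1)).resolve_left fun h => hg2z ?_
    have hi : a * (g⁻¹ * z * g) * a⁻¹ = g⁻¹ * z * g := by
      calc a * (g⁻¹ * z * g) * a⁻¹ = g⁻¹ * (a' * z * a'⁻¹) * g := by rw [ha']; group
        _ = g⁻¹ * z * g := by rw [h]
    rw [← haz'] at hi
    have h3 : z' = g⁻¹ * z * g := by
      rw [← haz']
      calc z' = (a * a) * z' * (a * a)⁻¹ := by rw [ha2]; group
        _ = a * (a * z' * a⁻¹) * a⁻¹ := by group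
        _ = a * z' * a⁻¹ := hi
    calc g * g * z * (g * g)⁻¹ = g * z' * g⁻¹ := by rw [hz']; group
      _ = z := by rw [h3]; group
  let C : Subgroup G := Q ⊓ (fixer a ⊓ fixer g)
  have memC : ∀ q : G, q ∈ C ↔ q ∈ Q ∧ a * q = q * a ∧ g * q = q * g := fun q => by
    simp only [C, Subgroup.mem_inf, mem_fixer]
    exact ⟨fun h => ⟨h.1, h.2.1.symm, h.2.2.symm⟩, fun h => ⟨h.1, h.2.1.symm, h.2.2.symm⟩⟩
  have both : ∀ q ∈ Q, a * q * a⁻¹ = q → a' * q * a'⁻¹ = q → q ∈ C := by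
    intro q hq h h'
    refine (memC q).2 ⟨hq, mul_inv_eq_iff_eq_mul.1 h, ?_⟩
    have h3 : a * a' ∈ fixer q := mul_mem (mem_fixer_iff_conj.2 h) (mem_fixer_iff_conj.2 h')
    rw [haa'] at h3
    have h4 : g * g ∈ fixer q := by simpa using inv_mem h3
    exact mem_fixer.1 (hsqfix h4)
  have split : ∀ q ∈ Q, ∃ c ∈ C, q = c ∨ q = c * z ∨ q = c * z' ∨ q = c * (z * z') := by
    intro q hq
    have step2 : ∀ p ∈ Q, a * p * a⁻¹ = p → p ∈ C ∨ p * z ∈ C := by
      intro p hp h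
      rcases act' p hp with e | e
      · exact Or.inl (both p hp h e)
      · refine Or.inr (both _ (mul_mem hp (s.V_le_Q hF hz.1)) ?_ ?_)
        · rw [show a * (p * z) * a⁻¹ = (a * p * a⁻¹) * (a * z * a⁻¹) by group, h, haz]
        · rw [show a' * (p * z) * a'⁻¹ = (a' * p * a'⁻¹) * (a' * z * a'⁻¹) by group, e, ha'z,
            show z' * p * (z' * z) = z' * (p * z') * z by group, s.V_comm_Q hF hz'V hp, ← mul_assoc z' z' p,
            hz'2, one_mul]
    rcases act q hq with e | e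
    · rcases step2 q hq e with h | h
      · exact ⟨q, h, Or.inl rfl⟩
      · exact ⟨q * z, h, Or.inr (Or.inl (by rw [mul_assoc, hz2, mul_one]))⟩
    · have h3 : a * (q * z') * a⁻¹ = q * z' := by
        rw [show a * (q * z') * a⁻¹ = (a * q * a⁻¹) * (a * z' * a⁻¹) by group, e, haz'',
          show z * q * (z * z') = z * (q * z) * z' by group, hzz q hq, ← mul_assoc z z q, hz2, one_mul]
      rcases step2 _ (mul_mem hq hz'Q) h3 with h | h
      · exact ⟨q * z', h, Or.inr (Or.inr (Or.inl (by rw [mul_assoc, hz'2, mul_one])))⟩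
      · refine ⟨q * z' * z, h, Or.inr (Or.inr (Or.inr ?_))⟩
        rw [show q * z' * z * (z * z') = q * (z' * (z * z) * z') by group, hz2, mul_one, hz'2, mul_one]
  have hzQ : z ∈ Q := s.V_le_Q hF hz.1
  have wcomm : ∀ w ∈ Vm H P, ∀ q ∈ Q, q * w = w * q := fun w hw q hq => s.V_comm_Q hF hw hq
  have hCQ : C ≤ Q := inf_le_left
  have hQC : Q ≤ stab C := by
    intro q hq
    obtain ⟨c, hc, hcq⟩ := split q hq
    have cc : ∀ w ∈ Vm H P, w ∈ stab C := fun w hw => by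
      refine stab_of_le fun x hx => ?_
      have hx' : w⁻¹ * x * w ∈ C := hx
      have e := wcomm w hw _ (hCQ hx')
      have : x = w⁻¹ * x * w := by
        calc x = w * (w⁻¹ * x * w) * w⁻¹ := by group
          _ = w⁻¹ * x * w := by rw [← e, mul_inv_cancel_right]
      rwa [this]
    have hcC : c ∈ stab C := cj_of_mem hc
    rcases hcq with rfl | rfl | rfl | rfl
    · exact hcC
    · exact mul_mem hcC (cc _ hz.1)
    · exact mul_mem hcC (cc _ hz'V)
    · exact mul_mem hcC (cc _ (mul_mem hz.1 hz'V))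
  have fixes : ∀ {X : Subgroup G} {x : G}, X ≤ fixer x → x ∈ stab X := by
    intro X x hX
    refine stab_of_le fun u hu => ?_
    have hu' : x⁻¹ * u * x ∈ X := hu
    have := mem_fixer.1 (hX hu')
    have e : u = x⁻¹ * u * x := by
      calc u = x * (x⁻¹ * u * x) * x⁻¹ := by group
        _ = x⁻¹ * u * x := by rw [← this, mul_inv_cancel_right]
    rwa [e]
  have hCa : C ≤ fixer a := inf_le_right.trans inf_le_left
  have hCg : C ≤ fixer g := inf_le_right.trans inf_le_right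
  have hPC : P ≤ stab C := by
    intro p hp
    by_cases hpQ : p ∈ Q
    · exact hQC hpQ
    · have := mul_mem (fixes hCa) (hQC (s.inv_mul_mem_Q haP haQ hp hpQ))
      simpa using this
  have hCU : C ≤ cj y Q := fun q hq => by
    obtain ⟨hqQ, h, -⟩ := (memC q).1 hq
    by_contra hqU
    have := move q hqQ hqU
    rw [h, mul_inv_cancel_right] at this
    exact hz.2.1 (mul_eq_right.1 this.symm)
  have hCy : cj y C ≤ Q ∧ cj y C ≤ cj y Q := ⟨(cj_mono y hCU).trans s.y_U.le, cj_mono y hCQ⟩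
  have hPC1 : P ≤ stab (cj y C) := fun p hp => by
    rw [mem_stab, cj_cj, show p * y = y * (y⁻¹ * p * y) by group, ← cj_cj, hPC (s.yPX' hp)]
  have hX : C ⊓ cj y C = ⊥ := by
    refine s.nonormal _ (inf_le_left.trans hCQ) ?_ ?_
    · refine fun h hh => (s.gen_le hg (L := stab (C ⊓ cj y C)) ?_ (fixes (inf_le_left.trans hCg))) hh
      intro p hp
      refine stab_of_le fun x hx => ?_
      have hx' : p⁻¹ * x * p ∈ C ⊓ cj y C := hx
      have e : x = p * (p⁻¹ * x * p) * p⁻¹ := by group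
      constructor
      · rw [e, ← hPC hp]; exact conj_mem_cj hx'.1
      · rw [e, ← hPC1 hp]; exact conj_mem_cj hx'.2
    · refine stab_of_le (le_inf ?_ (cj_mono y inf_le_left))
      exact (cj_mono y inf_le_right).trans (s.y_twice (hCQ.trans s.QP) hPC).le
  have hout : ∀ x ∈ cj y C, x ≠ 1 → x * z ∈ C := by
    intro x hx hx1
    have hxQ := hCy.1 hx
    obtain ⟨c, hc, hcx⟩ := split x hxQ
    have hfix := hR x (hCy.2 hx)
    have hac : a * c * a⁻¹ = c := mul_inv_eq_iff_eq_mul.2 ((memC c).1 hc).2.1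
    rcases hcx with rfl | rfl | rfl | rfl
    · exfalso
      have : x ∈ (⊥ : Subgroup G) := hX ▸ Subgroup.mem_inf.2 ⟨hc, hx⟩
      exact hx1 (Subgroup.mem_bot.1 this)
    · rwa [mul_assoc, hz2, mul_one]
    · exfalso
      rw [show a * (c * z') * a⁻¹ = (a * c * a⁻¹) * (a * z' * a⁻¹) by group, hac, haz''] at hfix
      exact hz.2.1 (mul_eq_right.1 (mul_left_cancel hfix))
    · exfalso
      rw [show a * (c * (z * z')) * a⁻¹ = (a * c * a⁻¹) * ((a * z * a⁻¹) * (a * z' * a⁻¹)) by group,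
        hac, haz, haz''] at hfix
      exact hz.2.1 (mul_eq_right.1 (mul_left_cancel (mul_left_cancel hfix)))
  have hone : ∀ x ∈ cj y C, ∀ x' ∈ cj y C, x ≠ 1 → x' ≠ 1 → x = x' := by
    intro x hx x' hx' h h'
    have hC' := mul_mem (hout x hx h) (inv_mem (hout x' hx' h'))
    rw [show x * z * (x' * z)⁻¹ = x * x'⁻¹ by group] at hC'
    have : x * x'⁻¹ ∈ (⊥ : Subgroup G) := hX ▸ Subgroup.mem_inf.2 ⟨hC', mul_mem hx (inv_mem hx')⟩
    exact mul_inv_eq_one.1 (Subgroup.mem_bot.1 this)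
  have honeC : ∀ c ∈ C, ∀ c' ∈ C, c ≠ 1 → c' ≠ 1 → c = c' := by
    intro c hc c' hc' h h'
    have := hone _ (conj_mem_cj hc) _ (conj_mem_cj hc') (by simpa using h) (by simpa using h')
    simpa using this
  have hcard : Nat.card C ≤ 2 := by
    haveI := Fintype.ofFinite C
    classical
    rw [Nat.card_eq_fintype_card]
    refine le_trans (Fintype.card_le_of_injective (fun c : C => decide ((c : G) = 1)) ?_)
      Fintype.card_bool.le
    intro c c' h
    simp only [decide_eq_decide] at h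
    by_cases hc : (c : G) = 1
    · exact Subtype.ext (hc.trans (h.1 hc).symm)
    · exact Subtype.ext (honeC c c.2 c' c'.2 hc fun e => hc (h.2 e))
  have hC2 : ∀ c ∈ C, c * c = 1 := by
    intro c hc
    by_contra h
    have hc1 : c ≠ 1 := fun e => h (by rw [e, one_mul])
    exact hc1 (mul_eq_right.1 (honeC _ (mul_mem hc hc) c hc h hc1))
  have hstabC : H ≤ stab C := s.gen_le hg hPC (fixes hCg)
  have hcent : ∀ c ∈ C, H ≤ fixer c := by
    intro c hc h hh
    rw [mem_fixer_iff_conj]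
    by_cases hc1 : c = 1
    · simp [hc1]
    · have hm := conj_mem_cj (g := h) hc
      rw [hstabC hh] at hm
      exact honeC _ hm c hc (by simpa using hc1) hc1
  have hCH : ∀ c ∈ C, ∀ x ∈ H, x * c = c * x := fun c hc x hx => mem_fixer.1 (hcent c hc hx)
  have qcomm : ∀ q ∈ Q, ∀ r ∈ Q, q * r = r * q := by
    intro q hq r hr
    obtain ⟨c, hc, hcq⟩ := split q hq
    have hfc : r ∈ fixer c := mem_fixer.2 (hCH c hc r (s.QH hr))
    have hfw : ∀ w ∈ Vm H P, r ∈ fixer w := fun w hw => mem_fixer.2 (wcomm w hw r hr)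
    have key : ∀ w ∈ Vm H P, c * w * r = r * (c * w) := fun w hw => by
      rw [← mul_assoc r, mem_fixer.1 hfc, mul_assoc c r, mem_fixer.1 (hfw w hw), mul_assoc]
    rcases hcq with rfl | rfl | rfl | rfl
    · exact (mem_fixer.1 hfc).symm
    · exact key _ hz.1
    · exact key _ hz'V
    · exact key _ (mul_mem hz.1 hz'V)
  have qsq : ∀ q ∈ Q, q * q = 1 := by
    intro q hq
    obtain ⟨c, hc, hcq⟩ := split q hq
    have key : ∀ w ∈ Vm H P, c * w * (c * w) = 1 := fun w hw => by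
      rw [show c * w * (c * w) = c * (w * c) * w by group, qcomm w (s.V_le_Q hF hw) c (hCQ hc),
        show c * (c * w) * w = (c * c) * (w * w) by group, hC2 c hc, s.V_sq hF hw, one_mul]
    rcases hcq with rfl | rfl | rfl | rfl
    · exact hC2 _ hc
    · exact key _ hz.1
    · exact key _ hz'V
    · exact key _ (mul_mem hz.1 hz'V)
  have g3z : g ^ 3 * z * (g ^ 3)⁻¹ = z := by
    rw [show g ^ 3 * z * (g ^ 3)⁻¹ = g * (g * (g * z * g⁻¹) * g⁻¹) * g⁻¹ by simp [pow_succ, mul_assoc],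
      ← hz', hggz, hgzz]
  have g3z' : g ^ 3 * z' * (g ^ 3)⁻¹ = z' := by
    rw [hz', show g ^ 3 * (g * z * g⁻¹) * (g ^ 3)⁻¹ = g * (g ^ 3 * z * (g ^ 3)⁻¹) * g⁻¹ by group, g3z]
  have g3 : ∀ q ∈ Q, g ^ 3 * q = q * g ^ 3 := by
    intro q hq
    refine mem_fixer.1 (?_ : g ^ 3 ∈ fixer q)
    obtain ⟨c, hc, hcq⟩ := split q hq
    have hfc : g ^ 3 ∈ fixer c := hcent c hc (pow_mem hgH 3)
    have key : ∀ w, g ^ 3 ∈ fixer w → g ^ 3 ∈ fixer (c * w) := fun w hw => by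
      rw [mem_fixer, ← mul_assoc, mem_fixer.1 hfc, mul_assoc, mem_fixer.1 hw, mul_assoc]
    rcases hcq with rfl | rfl | rfl | rfl
    · exact hfc
    · exact key _ (mem_fixer_iff_conj.2 g3z)
    · exact key _ (mem_fixer_iff_conj.2 g3z')
    · refine key _ (mem_fixer_iff_conj.2 ?_)
      rw [show g ^ 3 * (z * z') * (g ^ 3)⁻¹ = (g ^ 3 * z * (g ^ 3)⁻¹) * (g ^ 3 * z' * (g ^ 3)⁻¹) by
        group, g3z, g3z']
  exact ⟨C, g, a, z, hg, hodd, haP, haQ, ha2, hinv, hCQ, hcard, hC2, hcent,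
    fun q hq h h' => (memC q).2 ⟨hq, h', h⟩, hzQ, hz2, qcomm, qsq, haz, haz'', hggz, g3, hgz, hg2z,
    hz.2.1, split⟩

/-- A faithful setup has the shape found for critical words of length one. -/
theorem exists_shape (hF : Faithful P Q) : ∃ C g a z, s.Shape C g a z := by
  classical
  have hex := s.exists_bad hF
  obtain ⟨w, hw, hbad⟩ := Nat.find_spec hex
  have hmin : ∀ k < Nat.find hex, ∀ x ∈ Word H y k, s.Good x := fun k hk x hx => by
    by_contra h
    exact Nat.find_min hex hk ⟨x, hx, h⟩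
  obtain ⟨B, hB⟩ : ∃ B, Nat.find hex = B := ⟨_, rfl⟩
  rw [hB] at hw hmin
  match B, hw, hmin with
  | 0, hw, _ => exact absurd (s.good_zero hF hw) hbad
  | 1, hw, _ =>
    obtain ⟨h, hh, e, he, x, hx, rfl⟩ := hw
    rw [s.good_right hF hx, s.good_left hF hh] at hbad
    refine s.one_shape hF fun hle => hbad ?_
    rw [Good, s.step_V hF he]
    exact hle
  | 2, hw, hmin =>
    obtain ⟨h, hh, e, he, x, hx, rfl⟩ := hw
    obtain ⟨x', hx', e', he', h', hh', rfl⟩ := s.word_last hx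
    rw [show h * e * (x' * e' * h') = h * (e * x' * e') * h' by group, s.good_right hF hh',
      s.good_left hF hh] at hbad
    exact (s.two_false hF hmin he he' hx' hbad).elim
  | c + 3, hw, hmin =>
    obtain ⟨h, hh, e, he, x, hx, rfl⟩ := hw
    obtain ⟨x', hx', e', he', h', hh', rfl⟩ := s.word_last hx
    obtain ⟨m, hm, e₃, he₃, h₃, hh₃, rfl⟩ := s.word_last hx'
    rw [show h * e * (m * e₃ * h₃ * e' * h') = h * (e * (m * e₃ * h₃) * e') * h' by group,
      s.good_right hF hh', s.good_left hF hh] at hbad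
    exact (s.three_false hF hmin rfl he he₃ he' hm hh₃ hbad).elim

end Setup

end CfsgLib.PushDihedral
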