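import Cfsg.Agent.Lib.PushDihedral.Long
import Cfsg.Agent.Lib.Coprime.Action

/-!
Critical words of length two lead to a contradiction: squares of elements of `Q` would be fixed by
a generating rotation.
-/

set_option autoImplicit false
set_option linter.unusedSectionVars false
set_option linter.style.haveILetI false

namespace CfsgLib.PushDihedral

variable {G : Type*} [Group G]

namespace Setup

variable {H P Q : Subgroup G} {y : G} {n : ℕ} {π : H →* DihedralGroup n}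
variable (s : Setup H P Q y n π) (hF : Faithful P Q) [Finite G]
include s hF

theorem two_false (hmin : ∀ k < 2, ∀ x ∈ Word H y k, s.Good x) {e₁ e₂ m : G} (h₁ : s.Step e₁)
    (h₂ : s.Step e₂) (hm : m ∈ H) (hw : ¬ s.Good (e₁ * m * e₂)) : False := by
  obtain ⟨z, hz, hc⟩ := s.central_two hF hmin rfl h₁ h₂ hm hw
  set z₁ := y * z * y⁻¹ with hz₁
  obtain ⟨hz₁P, hz₁2, -⟩ : z₁ ∈ Zset P := s.Zset_y (s.Tr_mem hF hz)
  have hzy : y * z₁ * y⁻¹ = z := s.Tr_y hF hz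
  have zc : ∀ h ∈ H, h * z₁ * h⁻¹ = z₁ := fun h hh => mem_fixer_iff_conj.1 (hc hh)
  have zcq : ∀ h ∈ H, h * z₁ = z₁ * h := fun h hh => mem_fixer.1 (hc hh)
  have hV1Q : cj y (Vm H P) ≤ Q := by
    have := hmin 1 (by omega) (y * 1) (s.word_cons (Or.inl rfl) (one_mem H))
    rwa [Good, mul_one] at this
  have hVU : Vm H P ≤ cj y Q := by
    rw [← s.y_y_V hF]; exact cj_mono y hV1Q
  have notU : ∀ h, s.Gen h → ¬ cj h (cj y (Vm H P)) ≤ cj y Q := by
    intro h hh hle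
    have hs := s.shift hF hmin (c := 0) rfl h₁ h₂ hm hw (s.gen_inv hh)
    rw [inv_inv, show y * (h * (e₁ * m)) = y * h * e₁ * m by group, s.good_right hF hm] at hs
    refine hs ?_
    rw [Good, ← cj_cj, ← cj_cj, s.step_V hF h₁, ← s.y_U]
    exact cj_mono y hle
  obtain ⟨a₀, ha₀, ha₀Q⟩ := s.exists_out
  obtain ⟨v₀, hv₀, hv₀m⟩ := s.moves hF ha₀ ha₀Q
  have moved : ∀ x ∈ P, x ∉ Q → x * v₀ * x⁻¹ = z * v₀ := by
    intro x hx hxQ
    refine s.Tr_moved hF hz hx hv₀ fun h => hv₀m ?_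
    have hq := s.V_comm_Q hF hv₀ (s.inv_mul_mem_Q hx hxQ ha₀ ha₀Q)
    calc a₀ * v₀ * a₀⁻¹ = x * ((x⁻¹ * a₀) * v₀) * a₀⁻¹ := by group
      _ = x * (v₀ * (x⁻¹ * a₀)) * a₀⁻¹ := by rw [hq]
      _ = x * v₀ * x⁻¹ := by group
      _ = v₀ := h
  set b := y * v₀ * y⁻¹ with hb
  have hbV1 : b ∈ cj y (Vm H P) := conj_mem_cj hv₀
  have hbQ : b ∈ Q := hV1Q hbV1
  have hb2 : b * b = 1 := by
    rw [hb, show y * v₀ * y⁻¹ * (y * v₀ * y⁻¹) = y * (v₀ * v₀) * y⁻¹ by group, s.V_sq hF hv₀]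
    group
  have gbU : ∀ h, s.Gen h → h * b * h⁻¹ ∉ cj y Q := by
    intro h hh hU
    refine notU h hh fun l hl => ?_
    have hv : y⁻¹ * (h⁻¹ * l * h) * y ∈ Vm H P := hl
    have fixed : ∀ f ∈ Vm H P, a₀ * f * a₀⁻¹ = f → h * (y * f * y⁻¹) * h⁻¹ ∈ cj y Q := by
      intro f hf hfa
      have hfZ : f ∈ Zset P := by
        refine ⟨s.V_le_P hF hf, s.V_sq hF hf, fun x hx => mem_fixer_iff_conj.2 ?_⟩
        by_cases hxQ : x ∈ Q
        · rw [s.V_comm_Q hF hf hxQ, mul_inv_cancel_right]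
        · have hq := s.V_comm_Q hF hf (s.inv_mul_mem_Q ha₀ ha₀Q hx hxQ)
          calc x * f * x⁻¹ = a₀ * ((a₀⁻¹ * x) * f) * x⁻¹ := by group
            _ = a₀ * (f * (a₀⁻¹ * x)) * x⁻¹ := by rw [hq]
            _ = a₀ * f * a₀⁻¹ := by group
            _ = f := hfa
      exact hVU (s.conj_V hF hh.1 (mem_Vm_of_mem (s.Zset_y hfZ)))
    set v := y⁻¹ * (h⁻¹ * l * h) * y with hvdef
    rcases hz.2.2.2 a₀ ha₀ v hv with e | e
    · have := fixed v hv e
      rw [hvdef] at this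
      simpa [mul_assoc] using this
    · have e2 : a₀ * (v₀ * v) * a₀⁻¹ = v₀ * v := by
        rw [show a₀ * (v₀ * v) * a₀⁻¹ = (a₀ * v₀ * a₀⁻¹) * (a₀ * v * a₀⁻¹) by group,
          moved a₀ ha₀ ha₀Q, e,
          show z * v₀ * (z * v) = z * (v₀ * z) * v by group,
          s.V_comm_Q hF hz.1 (s.V_le_Q hF hv₀), ← mul_assoc z z v₀, s.V_sq hF hz.1, one_mul]
      have h3 := mul_mem (inv_mem hU) (fixed (v₀ * v) (mul_mem hv₀ hv) e2)
      rw [hb, hvdef] at h3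
      simpa [mul_assoc] using h3
  have pair : ∀ h, s.Gen h → (h * b * h⁻¹) * b * (h * b * h⁻¹)⁻¹ = z₁ * b := by
    intro h hh
    have hP := s.yPX' (s.QP (s.conj_Q hh.1 hbQ))
    have hnQ : y⁻¹ * (h * b * h⁻¹) * y ∉ Q := gbU h hh
    calc (h * b * h⁻¹) * b * (h * b * h⁻¹)⁻¹
        = y * ((y⁻¹ * (h * b * h⁻¹) * y) * v₀ * (y⁻¹ * (h * b * h⁻¹) * y)⁻¹) * y⁻¹ := by
          rw [hb]; group
      _ = y * (z * v₀) * y⁻¹ := by rw [moved _ hP hnQ]
      _ = z₁ * b := by rw [hz₁, hb]; group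
  obtain ⟨g, hg, -⟩ := s.exists_gen_odd
  set a := g * b * g⁻¹ with ha
  set a' := g⁻¹ * b * g with ha'
  have haQ : a ∈ Q := s.conj_Q hg.1 hbQ
  have ha'Q : a' ∈ Q := by simpa [ha'] using s.conj_Q (inv_mem hg.1) hbQ
  have haU : a ∉ cj y Q := gbU g hg
  have ha'U : a' ∉ cj y Q := by simpa [ha'] using gbU g⁻¹ (s.gen_inv hg)
  have haa : a * a' * a⁻¹ = z₁ * a' := by
    have h := pair (g * g) (s.gen_sq hg)
    calc a * a' * a⁻¹ = g⁻¹ * ((g * g * b * (g * g)⁻¹) * b * (g * g * b * (g * g)⁻¹)⁻¹) * g := by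
          simp [ha, ha', mul_assoc]
      _ = g⁻¹ * (z₁ * b) * g := by rw [h]
      _ = (g⁻¹ * z₁ * g⁻¹⁻¹) * a' := by rw [ha']; group
      _ = z₁ * a' := by rw [zc _ (inv_mem hg.1)]
  have ha2 : a * a = 1 := by
    rw [ha, show g * b * g⁻¹ * (g * b * g⁻¹) = g * (b * b) * g⁻¹ by group, hb2]; group
  have ha'2 : a' * a' = 1 := by
    rw [ha', show g⁻¹ * b * g * (g⁻¹ * b * g) = g⁻¹ * (b * b) * g by group, hb2]; group
  have idx : ∀ {x x' : G}, x ∈ P → x ∉ cj y Q → x' ∈ P → x' ∉ cj y Q → x * x' ∈ cj y Q := by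
    intro x x' hx hxU hx' hxU'
    have := s.mul_mem_Q (s.yPX' hx) hxU (s.yPX' hx') hxU'
    rw [mem_cj]
    simpa [mul_assoc] using this
  set u := a * a' with hu
  have huU : u ∈ cj y Q := idx (s.QP haQ) haU (s.QP ha'Q) ha'U
  have hu2 : u * u = z₁ := by
    have ha_inv : a⁻¹ = a := inv_eq_of_mul_eq_one_right ha2
    calc u * u = (a * a' * a⁻¹) * a' := by rw [hu, ha_inv]; group
      _ = z₁ := by rw [haa, mul_assoc, ha'2, mul_one]
  set q₁ := y * u * y⁻¹ with hq₁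
  have hq₁Q : q₁ ∈ Q := by
    rw [← s.y_U]
    exact conj_mem_cj huU
  have hq₁2 : q₁ * q₁ = z := by
    rw [hq₁, show y * u * y⁻¹ * (y * u * y⁻¹) = y * (u * u) * y⁻¹ by group, hu2, hzy]
  -- the elements with small commutators and squares
  have zinv : z₁⁻¹ = z₁ := inv_eq_of_mul_eq_one_right hz₁2
  let S : Subgroup G :=
    { carrier := {q | q ∈ Q ∧ (∀ r ∈ Q, r * q * r⁻¹ = q ∨ r * q * r⁻¹ = z₁ * q) ∧
        (q * q = 1 ∨ q * q = z₁)}
      one_mem' := ⟨one_mem Q, fun r _ => Or.inl (by simp), Or.inl (one_mul 1)⟩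
      mul_mem' := by
        rintro p q ⟨hp, hpc, hp2⟩ ⟨hq, hqc, hq2⟩
        refine ⟨mul_mem hp hq, fun r hr => ?_, ?_⟩
        · rw [show r * (p * q) * r⁻¹ = (r * p * r⁻¹) * (r * q * r⁻¹) by group]
          have hzp := zcq p (s.QH hp)
          rcases hpc r hr with h | h <;> rcases hqc r hr with h' | h' <;> rw [h, h']
          · exact Or.inl rfl
          · exact Or.inr (by rw [← mul_assoc, hzp, mul_assoc])
          · exact Or.inr (mul_assoc _ _ _)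
          · refine Or.inl ?_
            rw [show z₁ * p * (z₁ * q) = z₁ * (p * z₁) * q by group, hzp, ← mul_assoc, hz₁2, one_mul]
        · rcases hpc q hq with h | h
          · have e : p * q * (p * q) = (p * p) * (q * q) := by
              calc p * q * (p * q) = p * (q * p * q⁻¹) * (q * q) := by group
                _ = (p * p) * (q * q) := by rw [h]
            rw [e]
            rcases hp2 with h1 | h1 <;> rcases hq2 with h2 | h2 <;> rw [h1, h2] <;>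
              simp [hz₁2]
          · have e : p * q * (p * q) = z₁ * ((p * p) * (q * q)) := by
              calc p * q * (p * q) = p * (q * p * q⁻¹) * (q * q) := by group
                _ = (p * z₁) * p * (q * q) := by rw [h]; group
                _ = z₁ * ((p * p) * (q * q)) := by rw [zcq p (s.QH hp)]; group
            rw [e]
            rcases hp2 with h1 | h1 <;> rcases hq2 with h2 | h2 <;> rw [h1, h2] <;>
              simp [hz₁2]
      inv_mem' := by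
        rintro p ⟨hp, hpc, hp2⟩
        refine ⟨inv_mem hp, fun r hr => ?_, ?_⟩
        · rw [show r * p⁻¹ * r⁻¹ = (r * p * r⁻¹)⁻¹ by group]
          rcases hpc r hr with h | h <;> rw [h]
          · exact Or.inl rfl
          · exact Or.inr (by rw [mul_inv_rev, zinv, zcq _ (s.QH (inv_mem hp))])
        · rw [← mul_inv_rev]
          rcases hp2 with h | h <;> rw [h]
          · exact Or.inl inv_one
          · exact Or.inr zinv }
  have hSQ : S ≤ Q := fun x hx => hx.1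
  have hSn : ∀ h ∈ H, ∀ x ∈ S, h * x * h⁻¹ ∈ S := by
    rintro h hh x ⟨hx, hxc, hx2⟩
    refine ⟨s.conj_Q hh hx, fun r hr => ?_, ?_⟩
    · have hr' : h⁻¹ * r * h ∈ Q := by simpa using s.conj_Q (inv_mem hh) hr
      rcases hxc _ hr' with e | e
      · left
        calc r * (h * x * h⁻¹) * r⁻¹ = h * ((h⁻¹ * r * h) * x * (h⁻¹ * r * h)⁻¹) * h⁻¹ := by group
          _ = h * x * h⁻¹ := by rw [e]
      · right
        calc r * (h * x * h⁻¹) * r⁻¹ = h * ((h⁻¹ * r * h) * x * (h⁻¹ * r * h)⁻¹) * h⁻¹ := by group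
          _ = (h * z₁ * h⁻¹) * (h * x * h⁻¹) := by rw [e]; group
          _ = z₁ * (h * x * h⁻¹) := by rw [zc h hh]
    · rw [show h * x * h⁻¹ * (h * x * h⁻¹) = h * (x * x) * h⁻¹ by group]
      rcases hx2 with e | e <;> rw [e]
      · left; group
      · exact Or.inr (zc h hh)
  have haS : a ∈ S := by
    refine hSn g hg.1 b ⟨hbQ, fun r hr => ?_, Or.inl hb2⟩
    rcases hz.2.2.2 _ (s.yPX' (s.QP hr)) v₀ hv₀ with e | e
    · left
      calc r * b * r⁻¹ = y * ((y⁻¹ * r * y) * v₀ * (y⁻¹ * r * y)⁻¹) * y⁻¹ := by rw [hb]; group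
        _ = b := by rw [e, hb]
    · right
      calc r * b * r⁻¹ = y * ((y⁻¹ * r * y) * v₀ * (y⁻¹ * r * y)⁻¹) * y⁻¹ := by rw [hb]; group
        _ = z₁ * b := by rw [e, hb, hz₁]; group
  have hzS : z ∈ S := ⟨s.V_le_Q hF hz.1,
    fun r hr => Or.inl (by rw [s.V_comm_Q hF hz.1 hr, mul_inv_cancel_right]),
    Or.inl (s.V_sq hF hz.1)⟩
  set t := y * a * y⁻¹ with ht
  have htP : t ∈ P := s.yPX (s.QP haQ)
  have htQ : t ∉ Q := fun h => haU (by
    rw [← s.y_U] at h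
    have h1 : y⁻¹ * t * y ∈ cj y Q := h
    have e : y⁻¹ * t * y = a := by rw [ht]; group
    rwa [e] at h1)
  have hR : ∀ q ∈ Q, q ∈ cj y Q → t * q * t⁻¹ * q⁻¹ ∈ S := by
    intro q hq hqU
    have hq0 : y⁻¹ * q * y ∈ Q := hqU
    rcases haS.2.1 _ hq0 with e | e
    · have : t * q * t⁻¹ * q⁻¹ = 1 := by
        rw [mul_inv_eq_iff_eq_mul] at e
        calc t * q * t⁻¹ * q⁻¹ = y * (a * (y⁻¹ * q * y) * a⁻¹ * (y⁻¹ * q * y)⁻¹) * y⁻¹ := by
              rw [ht]; group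
          _ = 1 := by rw [← e]; group
      rw [this]; exact one_mem S
    · have hzq := zcq _ (s.QH hq0)
      have hza := zcq _ (s.QH haQ)
      have : t * q * t⁻¹ * q⁻¹ = z := by
        rw [mul_inv_eq_iff_eq_mul] at e
        calc t * q * t⁻¹ * q⁻¹ = y * (a * (y⁻¹ * q * y) * a⁻¹ * (y⁻¹ * q * y)⁻¹) * y⁻¹ := by
              rw [ht]; group
          _ = y * (z₁⁻¹ * (z₁ * a * (y⁻¹ * q * y)) * a⁻¹ * (y⁻¹ * q * y)⁻¹) * y⁻¹ := by group
          _ = y * (z₁⁻¹ * ((y⁻¹ * q * y) * a) * a⁻¹ * (y⁻¹ * q * y)⁻¹) * y⁻¹ := by rw [← e]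
          _ = y * z₁ * y⁻¹ := by rw [zinv]; group
          _ = z := hzy
      rw [this]; exact hzS
  let T : Subgroup G :=
    { carrier := {h | h ∈ H ∧ ∀ q ∈ Q, h * q * h⁻¹ * q⁻¹ ∈ S}
      one_mem' := ⟨one_mem H, fun q _ => by simp [one_mem]⟩
      mul_mem' := by
        rintro h k ⟨hh, hhS⟩ ⟨hk, hkS⟩
        refine ⟨mul_mem hh hk, fun q hq => ?_⟩
        rw [show h * k * q * (h * k)⁻¹ * q⁻¹ = (h * (k * q * k⁻¹ * q⁻¹) * h⁻¹) * (h * q * h⁻¹ * q⁻¹)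
          by group]
        exact mul_mem (hSn h hh _ (hkS q hq)) (hhS q hq)
      inv_mem' := by
        rintro h ⟨hh, hhS⟩
        refine ⟨inv_mem hh, fun q hq => ?_⟩
        rw [show h⁻¹ * q * h⁻¹⁻¹ * q⁻¹ = (h * (h⁻¹ * q * h⁻¹⁻¹) * h⁻¹ * (h⁻¹ * q * h⁻¹⁻¹)⁻¹)⁻¹ by group]
        exact inv_mem (hhS _ (s.conj_Q (inv_mem hh) hq)) }
  have htT : t ∈ T := by
    refine ⟨s.PH htP, fun q hq => ?_⟩
    by_cases hqU : q ∈ cj y Q
    · exact hR q hq hqU
    · have hr : a * q ∈ cj y Q := idx (s.QP haQ) haU (s.QP hq) hqU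
      have hta : t * a * t⁻¹ ∈ S := hSn t (s.PH htP) a haS
      have e : t * q * t⁻¹ * q⁻¹ =
          (t * a * t⁻¹)⁻¹ * ((t * (a * q) * t⁻¹ * (a * q)⁻¹) * a) := by group
      rw [e]
      exact mul_mem (inv_mem hta) (mul_mem (hR _ (mul_mem haQ hq) hr) haS)
  have htT' : g * t * g⁻¹ ∈ T := by
    refine ⟨mul_mem (mul_mem hg.1 htT.1) (inv_mem hg.1), fun q hq => ?_⟩
    rw [show g * t * g⁻¹ * q * (g * t * g⁻¹)⁻¹ * q⁻¹ =
      g * (t * (g⁻¹ * q * g⁻¹⁻¹) * t⁻¹ * (g⁻¹ * q * g⁻¹⁻¹)⁻¹) * g⁻¹ by group]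
    exact hSn g hg.1 _ (htT.2 _ (s.conj_Q (inv_mem hg.1) hq))
  obtain ⟨k, l, hl, hord⟩ := Nat.exists_eq_two_pow_mul_odd (orderOf_pos (t * (g * t * g⁻¹))).ne'
  set g₁ := (t * (g * t * g⁻¹)) ^ 2 ^ k with hg₁
  have hg₁T : g₁ ∈ T := pow_mem (mul_mem htT htT') _
  have hord₁ : orderOf g₁ = l := by
    rw [hg₁, orderOf_pow' _ (Nat.two_pow_pos k).ne', hord, Nat.gcd_eq_right (dvd_mul_right _ _),
      Nat.mul_div_cancel_left _ (Nat.two_pow_pos k)]
  have hgen₁ : s.Gen g₁ := by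
    obtain ⟨hx, i, hi, e⟩ := s.gen_mul_conj hg htP htQ
    haveI := s.neZero
    refine ⟨pow_mem hx _, i * ((2 ^ k : ℕ) : ZMod n), hi.mul ?_, ?_⟩
    · push_cast; exact s.two_unit.pow k
    · rw [show (⟨g₁, pow_mem hx _⟩ : H) = ⟨t * (g * t * g⁻¹), hx⟩ ^ 2 ^ k from
        Subtype.ext (by simp [hg₁]), map_pow, e, DihedralGroup.r_pow]
  haveI : Fact (Nat.Prime 2) := ⟨Nat.prime_two⟩
  have hcop : (Nat.card (Subgroup.zpowers g₁)).Coprime (Nat.card Q) := by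
    rw [Nat.card_zpowers, hord₁]
    obtain ⟨e, he⟩ := (s.two.to_le s.QP).exists_card_eq
    rw [he]
    exact Nat.Coprime.pow_right _ (Nat.coprime_two_right.2 hl)
  have hnQ : Subgroup.zpowers g₁ ≤ Subgroup.normalizer (Q : Set G) := by
    rw [Subgroup.zpowers_le]
    exact Subgroup.mem_normalizer_fintype fun x hx => s.conj_Q hg₁T.1 hx
  have hnS : Subgroup.zpowers g₁ ≤ Subgroup.normalizer (S : Set G) := by
    rw [Subgroup.zpowers_le]
    exact Subgroup.mem_normalizer_fintype fun x hx => hSn g₁ hg₁T.1 x hx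
  obtain ⟨c, hcmem, hcS⟩ := Coprime.exists_centralizer_mem_coset hnQ hcop
    (Or.inl (Group.isSolvable_of_comm fun x x' => mul_comm' x x')) hSQ hnS hq₁Q (fun x hx => by
      have hxT : x ∈ T := by
        have : Subgroup.zpowers g₁ ≤ T := Subgroup.zpowers_le.2 hg₁T
        exact this hx
      rw [show q₁⁻¹ * (x * q₁ * x⁻¹) = q₁⁻¹ * (x * q₁ * x⁻¹ * q₁⁻¹) * q₁⁻¹⁻¹ by group]
      exact hSn _ (inv_mem (s.QH hq₁Q)) _ (hxT.2 _ hq₁Q))
  obtain ⟨hcQ, hcC⟩ := Subgroup.mem_inf.1 hcmem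
  have hgc : g₁ * c = c * g₁ :=
    Subgroup.mem_centralizer_iff.1 hcC g₁ (Subgroup.mem_zpowers g₁)
  have hgz : g₁ * z₁ = z₁ * g₁ := zcq g₁ hg₁T.1
  obtain ⟨hrQ, hrc, hr2⟩ : c⁻¹ * q₁ ∈ S := by simpa using inv_mem hcS
  set r := c⁻¹ * q₁ with hr
  have e : z = c * c * ((c⁻¹ * r * c⁻¹⁻¹) * r) := by rw [← hq₁2, hr]; group
  have hfix : g₁ ∈ fixer z := by
    have hcc : g₁ ∈ fixer (c * c) := mem_fixer.2 (by rw [← mul_assoc, hgc, mul_assoc, hgc, mul_assoc])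
    have hcz : g₁ ∈ fixer (c * c * z₁) := by
      rw [mem_fixer, ← mul_assoc, mem_fixer.1 hcc, mul_assoc, hgz, ← mul_assoc]
    rcases hrc _ (inv_mem hcQ) with e1 | e1 <;> rw [e1] at e <;> rcases hr2 with e2 | e2
    · rw [e, e2, mul_one]; exact hcc
    · rw [e, e2]; exact hcz
    · rw [e, mul_assoc z₁, e2, mul_one]; exact hcz
    · rw [e, mul_assoc z₁, e2, hz₁2, mul_one]; exact hcc
  exact s.Tr_not_central hF hz (s.gen_le hgen₁ hz.2.2.1 hfix)

end Setup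

end CfsgLib.PushDihedral
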