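import Cfsg.Agent.Lib.PushDihedral.Module

/-!
Critical words: the module cannot stay in `Q` for more than two steps.
-/

set_option autoImplicit false
set_option linter.unusedSectionVars false
set_option linter.style.haveILetI false

namespace CfsgLib.PushDihedral

variable {G : Type*} [Group G]

/-- Products of elements of `H` and `k` steps `y^±1`. -/
def Word (H : Subgroup G) (y : G) : ℕ → Set G
  | 0 => {x | x ∈ H}
  | k + 1 => {x | ∃ h ∈ H, ∃ e, (e = y ∨ e = y⁻¹) ∧ ∃ x' ∈ Word H y k, x = h * e * x'}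

namespace Setup

variable {H P Q : Subgroup G} {y : G} {n : ℕ} {π : H →* DihedralGroup n}
variable (s : Setup H P Q y n π)
include s

/-- The module is moved into `Q`. -/
def Good (_ : Setup H P Q y n π) (x : G) : Prop := cj x (Vm H P) ≤ Q

theorem mul_word {k : ℕ} {g x : G} (hg : g ∈ H) (hx : x ∈ Word H y k) : g * x ∈ Word H y k := by
  cases k with
  | zero => exact mul_mem hg hx
  | succ k =>
    obtain ⟨h, hh, e, he, x', hx', rfl⟩ := hx
    exact ⟨g * h, mul_mem hg hh, e, he, x', hx', by group⟩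

theorem word_mul {k : ℕ} {g x : G} (hx : x ∈ Word H y k) (hg : g ∈ H) : x * g ∈ Word H y k := by
  induction k generalizing x with
  | zero => exact mul_mem hx hg
  | succ k ih =>
    obtain ⟨h, hh, e, he, x', hx', rfl⟩ := hx
    exact ⟨h, hh, e, he, x' * g, ih hx', by group⟩

theorem word_cons {k : ℕ} {e x : G} (he : s.Step e) (hx : x ∈ Word H y k) :
    e * x ∈ Word H y (k + 1) := ⟨1, one_mem H, e, he, x, hx, by rw [one_mul]⟩

theorem word_snoc {k : ℕ} {e x : G} (hx : x ∈ Word H y k) (he : s.Step e) :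
    x * e ∈ Word H y (k + 1) := by
  induction k generalizing x with
  | zero => exact ⟨x, hx, e, he, 1, one_mem H, by rw [mul_one]⟩
  | succ k ih =>
    obtain ⟨h, hh, e', he', x', hx', rfl⟩ := hx
    exact ⟨h, hh, e', he', x' * e, ih hx', by group⟩

theorem word_last {k : ℕ} {x : G} (hx : x ∈ Word H y (k + 1)) :
    ∃ x' ∈ Word H y k, ∃ e, s.Step e ∧ ∃ h ∈ H, x = x' * e * h := by
  induction k generalizing x with
  | zero =>
    obtain ⟨h, hh, e, he, x', hx', rfl⟩ := hx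
    exact ⟨h, hh, e, he, x', hx', rfl⟩
  | succ k ih =>
    obtain ⟨h, hh, e, he, x', hx', rfl⟩ := hx
    obtain ⟨x'', hx'', e', he', h', hh', rfl⟩ := ih hx'
    exact ⟨h * e * x'', ⟨h, hh, e, he, x'', hx'', rfl⟩, e', he', h', hh', by group⟩

theorem word_inv {k : ℕ} {x : G} (hx : x ∈ Word H y k) : x⁻¹ ∈ Word H y k := by
  induction k generalizing x with
  | zero => exact inv_mem (show x ∈ H from hx)
  | succ k ih =>
    obtain ⟨h, hh, e, he, x', hx', rfl⟩ := hx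
    rw [mul_inv_rev, mul_inv_rev, ← mul_assoc]
    exact s.word_mul (s.word_snoc (ih hx') (s.step_inv he)) (inv_mem hh)

variable (hF : Faithful P Q)
include hF

theorem good_zero {x : G} (hx : x ∈ Word H y 0) : s.Good x := (s.cj_V hF hx).le.trans (s.V_le_Q hF)

theorem good_left {g : G} (hg : g ∈ H) (x : G) : s.Good (g * x) ↔ s.Good x := by
  rw [Good, Good, ← cj_cj]
  refine ⟨fun h => ?_, fun h => (cj_mono g h).trans (s.cj_Q hg).le⟩
  have := (cj_mono g⁻¹ h).trans (s.cj_Q (inv_mem hg)).le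
  rwa [cj_inv_cj] at this

theorem good_right {g : G} (hg : g ∈ H) (x : G) : s.Good (x * g) ↔ s.Good x := by
  rw [Good, Good, ← cj_cj, s.cj_V hF hg]

theorem exists_bad [Finite G] : ∃ k, ∃ x ∈ Word H y k, ¬ s.Good x := by
  by_contra hn
  push Not at hn
  set X := Subgroup.closure {v | ∃ k, ∃ x ∈ Word H y k, v ∈ cj x (Vm H P)} with hX
  have hXQ : X ≤ Q := (Subgroup.closure_le Q).2 fun v ⟨k, x, hx, hv⟩ => hn k x hx hv
  have step : ∀ g : G, (∀ k, ∀ x ∈ Word H y k, ∃ k', g * x ∈ Word H y k') → cj g X ≤ X := by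
    intro g hg
    rw [show cj g X ≤ X ↔ X ≤ cj g⁻¹ X by rw [le_cj_iff, inv_inv]]
    refine (Subgroup.closure_le _).2 fun v ⟨k, x, hx, hv⟩ => ?_
    obtain ⟨k', hk'⟩ := hg k x hx
    rw [SetLike.mem_coe, mem_cj, inv_inv]
    refine Subgroup.subset_closure ⟨k', g * x, hk', ?_⟩
    rw [← cj_cj]
    exact conj_mem_cj hv
  have both : ∀ g : G, cj g X ≤ X → cj g⁻¹ X ≤ X → cj g X = X := fun g h1 h2 =>
    le_antisymm h1 (by have := cj_mono g h2; rwa [cj_cj_inv] at this)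
  have hX0 : X = ⊥ := s.nonormal X hXQ
    (fun h hh => both h (step h fun k x hx => ⟨k, s.mul_word hh hx⟩)
      (step _ fun k x hx => ⟨k, s.mul_word (inv_mem hh) hx⟩))
    (both y (step y fun k x hx => ⟨k + 1, s.word_cons (Or.inl rfl) hx⟩)
      (step _ fun k x hx => ⟨k + 1, s.word_cons (Or.inr rfl) hx⟩))
  have hV : Vm H P ≤ X := fun v hv => Subgroup.subset_closure ⟨0, 1, one_mem H, by rwa [cj_one]⟩
  exact s.not_central_Z hF fun h _ => Subgroup.mem_centralizer_iff.2 fun z hz => by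
    have h1 : z ∈ (⊥ : Subgroup G) := hX0 ▸ hV (mem_Vm_of_mem hz)
    rw [Subgroup.mem_bot] at h1
    simp [h1]

section Min

variable {B : ℕ} (hmin : ∀ k < B, ∀ x ∈ Word H y k, s.Good x)
include hmin

theorem land {k : ℕ} (hk : k < B) {e x : G} (he : s.Step e) (hx : x ∈ Word H y k) :
    cj (e * x) (Vm H P) ≤ cj y Q := by
  rw [← cj_cj, ← s.step_Q he]
  exact cj_mono e (hmin k hk x hx)

theorem good_inv [Finite G] {k : ℕ} (hk : k ≤ B) {x : G} (hx : x ∈ Word H y k) (h : s.Good x) :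
    s.Good x⁻¹ := by
  have hcomm : ∀ w ∈ cj x⁻¹ (Vm H P), ∀ v ∈ Vm H P, w * v = v * w := by
    intro w hw v hv
    rw [mem_cj, inv_inv] at hw
    have h1 := s.V_comm_Q hF hw (h (conj_mem_cj (g := x) hv))
    calc w * v = x⁻¹ * ((x * w * x⁻¹) * (x * v * x⁻¹)) * x := by group
      _ = x⁻¹ * ((x * v * x⁻¹) * (x * w * x⁻¹)) * x := by rw [h1]
      _ = v * w := by group
  have hx' := s.word_inv hx
  cases k with
  | zero => exact s.good_zero hF hx'
  | succ k =>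
    obtain ⟨g, hg, e, he, x', hx'', e'⟩ := hx'
    rw [e', mul_assoc] at hcomm ⊢
    rw [s.good_left hF hg]
    intro w hw
    refine s.mem_Q_of_comm hF (s.U_le_P (s.land hF hmin (by omega) he hx'' hw)) fun v hv => ?_
    have h1 := hcomm (g * w * g⁻¹) (by rw [← cj_cj]; exact conj_mem_cj hw) (g * v * g⁻¹)
      (s.conj_V hF hg hv)
    calc w * v = g⁻¹ * ((g * w * g⁻¹) * (g * v * g⁻¹)) * g := by group
      _ = g⁻¹ * ((g * v * g⁻¹) * (g * w * g⁻¹)) * g := by rw [h1]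
      _ = v * w := by group

end Min

/-- A critical pair gives a transvection fixed by the critical element. -/
theorem crit [Finite G] {w : G} (h1 : cj w (Vm H P) ≤ P) (h2 : cj w⁻¹ (Vm H P) ≤ P)
    (hw : ¬ s.Good w) (hw' : ¬ s.Good w⁻¹) : ∃ z, s.Tr z ∧ w * z * w⁻¹ = z := by
  obtain ⟨a, ha, haQ⟩ := SetLike.not_le_iff_exists.1 hw
  obtain ⟨b, hb, hbQ⟩ := SetLike.not_le_iff_exists.1 hw'
  have inP : ∀ u ∈ Vm H P, w⁻¹ * u * w ∈ P := fun u hu =>
    h2 (by rw [mem_cj, inv_inv]; simpa [mul_assoc] using hu)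
  have hyper : ∀ u ∈ Vm H P, w⁻¹ * u * w ∈ Q → a * u * a⁻¹ = u := by
    intro u hu huQ
    have h := s.V_comm_Q hF (mem_cj.1 ha) huQ
    rw [mul_inv_eq_iff_eq_mul]
    calc a * u = w * ((w⁻¹ * a * w) * (w⁻¹ * u * w)) * w⁻¹ := by group
      _ = w * ((w⁻¹ * u * w) * (w⁻¹ * a * w)) * w⁻¹ := by rw [h]
      _ = u * a := by group
  have prod : ∀ u u' : G, u ∈ Vm H P → w⁻¹ * u * w ∉ Q → u' ∈ Vm H P → w⁻¹ * u' * w ∉ Q →
      a * (u * u') * a⁻¹ = u * u' := by
    intro u u' hu hu1 hu' hu1'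
    refine hyper _ (mul_mem hu hu') ?_
    have := s.mul_mem_Q (inP u hu) hu1 (inP u' hu') hu1'
    simpa [mul_assoc] using this
  obtain ⟨v₀, hv₀, hne⟩ := s.moves hF (h1 ha) haQ
  have hv₁ : w⁻¹ * v₀ * w ∉ Q := fun h => hne (hyper v₀ hv₀ h)
  set z := a * v₀ * a⁻¹ * v₀⁻¹ with hzdef
  have haV : ∀ v ∈ Vm H P, a * v * a⁻¹ ∈ Vm H P := fun v hv => s.conj_V hF (s.PH (h1 ha)) hv
  have hzV : z ∈ Vm H P := mul_mem (haV _ hv₀) (inv_mem hv₀)
  have hz1 : z ≠ 1 := fun h => hne (mul_inv_eq_one.1 h)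
  have inv_self : ∀ v ∈ Vm H P, v⁻¹ = v := fun v hv => inv_eq_of_mul_eq_one_right (s.V_sq hF hv)
  have vcomm : ∀ u ∈ Vm H P, ∀ v ∈ Vm H P, u * v = v * u := fun u hu v hv =>
    s.V_comm_Q hF hv (s.V_le_Q hF hu)
  have ha_act : ∀ v ∈ Vm H P, a * v * a⁻¹ = v ∨ a * v * a⁻¹ = z * v := by
    intro v hv
    by_cases hvQ : w⁻¹ * v * w ∈ Q
    · exact Or.inl (hyper v hv hvQ)
    · right
      have h := prod v₀ v hv₀ hv₁ hv hvQ
      rw [show a * (v₀ * v) * a⁻¹ = (a * v₀ * a⁻¹) * (a * v * a⁻¹) by group] at h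
      calc a * v * a⁻¹ = (a * v₀ * a⁻¹)⁻¹ * (v₀ * v) := by rw [← h]; group
        _ = z * v := by rw [inv_self _ (haV _ hv₀), hzdef, inv_self _ hv₀]; group
  have hzv : a * v₀ * a⁻¹ = z * v₀ := by rw [hzdef]; group
  have haz : a * z * a⁻¹ = z := by
    have h2' : a * (a * v₀ * a⁻¹) * a⁻¹ = v₀ := by
      rw [show a * (a * v₀ * a⁻¹) * a⁻¹ = (a * a) * v₀ * (a * a)⁻¹ by group,
        s.V_comm_Q hF hv₀ (s.sq_mem_Q (h1 ha)), mul_inv_cancel_right]
    rw [hzv, show a * (z * v₀) * a⁻¹ = (a * z * a⁻¹) * (a * v₀ * a⁻¹) by group, hzv,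
      ← mul_assoc] at h2'
    exact (mul_eq_one_iff_eq_inv.1 (mul_eq_right.1 h2')).trans (inv_self z hzV)
  have decomp : ∀ x ∈ P, x ∈ Q ∨ a⁻¹ * x ∈ Q := fun x hx => by
    by_cases h : x ∈ Q
    · exact Or.inl h
    · exact Or.inr (s.inv_mul_mem_Q (h1 ha) haQ hx h)
  have qfix : ∀ q ∈ Q, ∀ v ∈ Vm H P, q * v * q⁻¹ = v := fun q hq v hv => by
    rw [s.V_comm_Q hF hv hq, mul_inv_cancel_right]
  have hzP : P ≤ fixer z := by
    intro x hx
    rw [mem_fixer_iff_conj]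
    rcases decomp x hx with h | h
    · exact qfix x h z hzV
    · rw [show x * z * x⁻¹ = a * ((a⁻¹ * x) * z * (a⁻¹ * x)⁻¹) * a⁻¹ by group, qfix _ h z hzV, haz]
  have hTr : s.Tr z := by
    refine ⟨hzV, hz1, hzP, fun x hx v hv => ?_⟩
    rcases decomp x hx with h | h
    · exact Or.inl (qfix x h v hv)
    · rw [show x * v * x⁻¹ = a * ((a⁻¹ * x) * v * (a⁻¹ * x)⁻¹) * a⁻¹ by group, qfix _ h v hv]
      exact ha_act v hv
  refine ⟨z, hTr, ?_⟩
  -- the same commutator seen from the other end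
  have huV : w * b * w⁻¹ ∈ Vm H P := by simpa [mem_cj, mul_assoc] using hb
  have hb' : w⁻¹ * (w * b * w⁻¹) * w ∉ Q := by simpa [mul_assoc] using hbQ
  have hmove : a * (w * b * w⁻¹) * a⁻¹ = z * (w * b * w⁻¹) := by
    refine (ha_act _ huV).resolve_left fun h => hne ?_
    have h2 := prod (w * b * w⁻¹) v₀ huV hb' hv₀ hv₁
    rw [show a * (w * b * w⁻¹ * v₀) * a⁻¹ = (a * (w * b * w⁻¹) * a⁻¹) * (a * v₀ * a⁻¹) by group,
      h] at h2
    exact mul_left_cancel h2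
  set u := w * b * w⁻¹ with hu
  have haV' : w⁻¹ * a * w ∈ Vm H P := mem_cj.1 ha
  rcases hTr.2.2.2 b (h2 hb) _ haV' with h | h
  · exfalso
    refine hz1 ?_
    have e : u * a * u⁻¹ = a := by
      rw [hu]
      calc w * b * w⁻¹ * a * (w * b * w⁻¹)⁻¹ = w * (b * (w⁻¹ * a * w) * b⁻¹) * w⁻¹ := by group
        _ = a := by rw [h]; group
    have e2 : a * u * a⁻¹ = u := by
      rw [mul_inv_eq_iff_eq_mul] at e ⊢
      exact e.symm
    rw [e2] at hmove
    exact mul_eq_right.1 hmove.symm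
  · have e : u * a * u⁻¹ = (w * z * w⁻¹) * a := by
      rw [hu]
      calc w * b * w⁻¹ * a * (w * b * w⁻¹)⁻¹ = w * (b * (w⁻¹ * a * w) * b⁻¹) * w⁻¹ := by group
        _ = (w * z * w⁻¹) * a := by rw [h]; group
    have h4 : u * a * u⁻¹ * a⁻¹ = w * z * w⁻¹ := by rw [e, mul_inv_cancel_right]
    have h5 : u * a * u⁻¹ * a⁻¹ = u * (a * u * a⁻¹) := by
      rw [inv_self u huV]; group
    rw [h5, hmove, vcomm z hzV u huV, ← mul_assoc, s.V_sq hF huV, one_mul] at h4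
    exact h4.symm

end Setup

end CfsgLib.PushDihedral
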